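import Groth.Agent.L09.Residual.Space
import Groth.Agent.L09.FieldPt.Basic
import Groth.Agent.L09.Stack.CompSource
import Groth.Agent.S16811

/-!
One-point algebraic spaces through the associated stacks.
-/

set_option autoImplicit false
set_option backward.isDefEq.respectTransparency false
set_option backward.isDefEq.respectTransparency.types false

universe u

open CategoryTheory CategoryTheory.Limits AlgebraicGeometry Opposite AlgSt

noncomputable section

namespace Groth.L09.Residual

open Groth.L24.St Groth.L24.LocQ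

variable {S : Scheme.{u}}

theorem isAlgStack_ofSp {F : AlgSp.Sp S} (hF : AlgSp.IsAlgSpace F) :
    IsAlgStack Scheme.fppfPrecoverage (ofSp F) :=
  isAlgStack_of_repByAlgSp ⟨⟨F, hF⟩, _, isEquivOver_id _⟩

theorem locP_spChart_iff {R : MorphismProperty Scheme.{u}} (hR : Groth.L23.EtLocal R) {F : AlgSp.Sp S}
    (hF : AlgSp.IsAlgSpace F) {T : Over S} (g : (AlgSp.yon S).obj T ⟶ F) :
    RepByAlgSpWith (AlgSp.LocP R) (spChart g) ↔ AlgSp.LocP R g :=
  ⟨fun h => prop_of_repWith hasAtlasCovers_atlasCov (pBase_locP hR) (isLocalOnBase_locP hR)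
      (AlgSp.IsAlgSpace.yon_obj T) hF g ((repWith_precomp (ofOverCat_isEquivOver T) _).1 h),
    fun h => (repWith_precomp (ofOverCat_isEquivOver T) _).2
      (repWith_ofSpMap_of_prop (pBase_locP hR) (AlgSp.IsAlgSpace.yon_obj T) hF g h)⟩

theorem surjective_spChart_iff {F : AlgSp.Sp S} (hF : AlgSp.IsAlgSpace F) {T : Over S}
    (g : (AlgSp.yon S).obj T ⟶ F) :
    RepByAlgSpWith AlgSp.IsSurjectiveMor (spChart g) ↔ AlgSp.IsSurjectiveMor g :=
  ⟨fun h => Groth.L09.Stack.surjective_of_repWith_ofSpMap g ((repWith_precomp (ofOverCat_isEquivOver T) _).1 h),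
    fun h => (repWith_precomp (ofOverCat_isEquivOver T) _).2
      (repWith_ofSpMap_of_prop Groth.L09.Stack.pBase_surjective (AlgSp.IsAlgSpace.yon_obj T) hF g h)⟩

theorem smoothLocally_ofSp {Z : AlgSp.Space S} {P : Scheme.{u} → Prop} (hP : SmoothLocalProp P)
    (h : AlgSp.EtaleLocally P Z.obj) : SmoothLocally P (ofSp Z.obj) := by
  obtain ⟨T, a, ha, has, hT⟩ := h
  exact smoothLocally_of_chart (ofSp_isFibGrpd _) hP (smooth_spChart Z.property ha) (surjective_spChart has) hT

theorem etaleLocally_of_smoothLocally {Z : AlgSp.Space S} {P : Scheme.{u} → Prop}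
    (h : SmoothLocally P (ofSp Z.obj)) : AlgSp.EtaleLocally P Z.obj := by
  obtain ⟨T, a, ha, has⟩ := Z.property.atlas
  exact ⟨T, a, ha, has, h T _ (smooth_spChart Z.property ha)⟩

theorem smoothLocalProp_reduced : SmoothLocalProp (fun X : Scheme.{u} => IsReduced X) := by
  intro U R hR
  obtain ⟨hcov, hsm⟩ := (show R ∈ Scheme.precoverage @Smooth U from hR)
  refine ⟨fun hU V g hg => ?_, fun h => ?_⟩
  · have : Smooth g := hsm hg
    exact Groth.L23.isReduced_of_smooth g
  · have : ∀ p : U, _root_.IsReduced (U.presheaf.stalk p) := fun p => by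
      obtain ⟨V, g, hg, w, rfl⟩ := hcov p
      rcases hg with @⟨V, g, hg⟩
      have : Smooth g := hsm hg
      have : IsReduced V := h g hg
      exact isReduced_of_injective (g.stalkMap w).hom (Groth.L19.stalkMap_injective_of_flat g w)
    exact isReduced_of_isReduced_stalk U

theorem subsingleton_ofSp_iff (F : AlgSp.Sp S) : Subsingleton (Points (ofSp F)) ↔ Subsingleton (AlgSp.Points F) :=
  (Equiv.ofBijective _ (ptMap_bijective F)).symm.subsingleton_congr

theorem nonempty_ofSp_iff (F : AlgSp.Sp S) : Nonempty (Points (ofSp F)) ↔ Nonempty (AlgSp.Points F) :=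
  (Equiv.ofBijective _ (ptMap_bijective F)).symm.nonempty_congr

variable (Z : AlgSp.Space S)

theorem exists_flat_fieldPt (hr : AlgSp.EtaleLocally (fun U => IsReduced U) Z.obj) [Nonempty (AlgSp.Points Z.obj)]
    [Subsingleton (AlgSp.Points Z.obj)] :
    ∃ (k : Type u) (_ : Field k) (str : Spec (CommRingCat.of k) ⟶ S)
      (p : (AlgSp.yon S).obj (Over.mk str) ⟶ Z.obj),
      AlgSp.LocP @LocallyOfFiniteType p ∧ AlgSp.LocP @Flat p ∧ AlgSp.IsSurjectiveMor p := by
  have := (nonempty_ofSp_iff Z.obj).2 inferInstance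
  have := (subsingleton_ofSp_iff Z.obj).2 inferInstance
  obtain ⟨k, hk, a, z, h1, h2, h3⟩ := Groth.L09.FieldPt.exists_surjective_flat_fieldPt (isAlgStack_ofSp Z.property)
    (smoothLocally_ofSp smoothLocalProp_reduced hr)
  obtain ⟨g, ⟨i⟩⟩ := exists_spChart_iso z
  exact ⟨k, hk, a, g, (locP_spChart_iff Groth.L23.etLocal_lft Z.property g).1 ((repWith_congr i).1 h1),
    (locP_spChart_iff Groth.L23.etLocal_flat Z.property g).1 ((repWith_congr i).1 h3),
    (surjective_spChart_iff Z.property g).1 ((repWith_congr i).1 h2)⟩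

variable {k : Type u} [Field k] {str : Spec (CommRingCat.of k) ⟶ S} {p : (AlgSp.yon S).obj (Over.mk str) ⟶ Z.obj}

theorem props_of_fieldPt (hpf : AlgSp.LocP @Flat p) (hps : AlgSp.IsSurjectiveMor p) :
    AlgSp.EtaleLocally (fun U => IsReduced U) Z.obj ∧ Nonempty (AlgSp.Points Z.obj) ∧
      Subsingleton (AlgSp.Points Z.obj) :=
  ⟨etaleLocally_of_smoothLocally (Groth.L09.FieldPt.reduced_of_flat (isAlgStack_ofSp Z.property)
      ((surjective_spChart_iff Z.property p).2 hps) ((locP_spChart_iff Groth.L23.etLocal_flat Z.property p).2 hpf)),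
    (nonempty_ofSp_iff Z.obj).1 (Groth.L09.FieldPt.nonempty_points (spChart p)),
    (subsingleton_ofSp_iff Z.obj).1 (Groth.L09.FieldPt.subsingleton_points (isAlgStack_ofSp Z.property)
      ((surjective_spChart_iff Z.property p).2 hps))⟩

theorem flat_surjective_of_fieldPt (hpf : AlgSp.LocP @Flat p) (hps : AlgSp.IsSurjectiveMor p) {k' : Type u}
    [Field k'] {str' : Spec (CommRingCat.of k') ⟶ S} (q : (AlgSp.yon S).obj (Over.mk str') ⟶ Z.obj) :
    AlgSp.LocP @Flat q ∧ AlgSp.IsSurjectiveMor q := by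
  have := (props_of_fieldPt Z hpf hps).2.2
  refine ⟨(locP_spChart_iff Groth.L23.etLocal_flat Z.property q).1
    (Groth.L09.FieldPt.flat_of_flat (isAlgStack_ofSp Z.property) ((surjective_spChart_iff Z.property p).2 hps)
      ((locP_spChart_iff Groth.L23.etLocal_flat Z.property p).2 hpf) _), fun x => ?_⟩
  exact ⟨AlgSp.Points.ofScheme _ (IsLocalRing.closedPoint k' : PrimeSpectrum k'), Subsingleton.elim _ _⟩

theorem lfp_of_lft (hN : AlgSp.IsLocNoethSp Z.obj) (hp : AlgSp.LocP @LocallyOfFiniteType p) :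
    AlgSp.LocP @LocallyOfFinitePresentation p :=
  (locP_spChart_iff Groth.L23.etLocal_lfp Z.property p).1 (Groth.L09.FieldPt.lfp_of_lft (isAlgStack_ofSp Z.property)
    (smoothLocally_ofSp smoothLocalProp_isLocallyNoetherian hN)
    ((locP_spChart_iff Groth.L23.etLocal_lft Z.property p).2 hp))

theorem locNoeth_of_fieldPt (hpp : AlgSp.LocP @LocallyOfFinitePresentation p) (hpf : AlgSp.LocP @Flat p)
    (hps : AlgSp.IsSurjectiveMor p) : AlgSp.IsLocNoethSp Z.obj :=
  etaleLocally_of_smoothLocally (Groth.L09.FieldPt.locallyNoetherian_of_lfp (isAlgStack_ofSp Z.property)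
    ((locP_spChart_iff Groth.L23.etLocal_lfp Z.property p).2 hpp) ((surjective_spChart_iff Z.property p).2 hps)
    ((locP_spChart_iff Groth.L23.etLocal_flat Z.property p).2 hpf))

theorem etaleLocally_regular (hr : AlgSp.EtaleLocally (fun U => IsReduced U) Z.obj) (hN : AlgSp.IsLocNoethSp Z.obj)
    [Nonempty (AlgSp.Points Z.obj)] [Subsingleton (AlgSp.Points Z.obj)] :
    AlgSp.EtaleLocally (fun U => IsLocallyNoetherian U ∧ ∀ u : ↥U, IsRegularLocalRing ↥(U.presheaf.stalk u)) Z.obj := by
  have hR := smoothLocally_ofSp smoothLocalProp_reduced hr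
  have hN' := smoothLocally_ofSp smoothLocalProp_isLocallyNoetherian hN
  refine etaleLocally_of_smoothLocally fun U x hx => ⟨hN' U x hx, ?_⟩
  exact Groth.Agent.S16811.result S (ofSp Z.obj) (isAlgStack_ofSp Z.property) hR hN'
    ((nonempty_ofSp_iff Z.obj).2 inferInstance) ((subsingleton_ofSp_iff Z.obj).2 inferInstance) U x hx

end Groth.L09.Residual
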