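import Groth.Agent.L09.Residual.Stack
import Groth.Agent.L24.UnivClosed.Basic
import Groth.Agent.L23.Good
import Groth.Agent.L09.Residual.Singleton

/-!
Existence of residual gerbes from locally closed fibres on a chart.
-/

set_option autoImplicit false
set_option backward.isDefEq.respectTransparency false
set_option backward.isDefEq.respectTransparency.types false

universe u

open CategoryTheory CategoryTheory.Limits AlgebraicGeometry Opposite AlgSt

noncomputable section

namespace Groth.L09.Residual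

open Groth.L24.St Groth.L24.LocQ Groth.L09.FieldPt

variable {S : Scheme.{u}} {𝒳 : AlgSt.Cat S}

local notation "Jf" => QuotSh.J Scheme.fppfPrecoverage S

/-- The image of a field point with self-product locally of finite type over the field. -/
theorem imgLift_props' (h𝒳 : IsAlgStack Scheme.fppfPrecoverage 𝒳) {k : Type u} [Field k]
    {a : Spec (CommRingCat.of k) ⟶ S} {z : FibCat.overCat (Over.mk a) ⥤ᵇ 𝒳}
    (hl : RepByAlgSpWith (AlgSp.LocP @LocallyOfFiniteType) (FibCat.fpFst z z)) :
    IsAlgStack Scheme.fppfPrecoverage (fullSub 𝒳 (imgProp z)) ∧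
      RepByAlgSpWith AlgSp.IsSurjectiveMor (imgLift z) := by
  have hst := isStack_imgProp (z := z) h𝒳.isStack
  have hP := isAlgStack_overCat (Over.mk a)
  have hN := isAlgStack_fp hP hP h𝒳 z z
  have hr : RepByAlgSp1 (imgLift z) := repWith_rep1 (repWith_imgLift ((rep1_iff _).1 (rep1_overCat h𝒳 z)))
  have : (subIncl 𝒳 (imgProp z)).toFunctor.Full := inferInstanceAs (ObjectProperty.ι (imgProp z)).Full
  have : (subIncl 𝒳 (imgProp z)).toFunctor.Faithful := inferInstanceAs (ObjectProperty.ι (imgProp z)).Faithful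
  have hff := ffFp_isEquivOver (subIncl 𝒳 (imgProp z)) (imgLift z) (imgLift z)
  have hl' : RepByAlgSpWith (AlgSp.LocP @LocallyOfFinitePresentation) (imgLift z) :=
    repWith_of_fpFst_sieve (pBase_locP Groth.L23.etLocal_lfp) (isLocalOnBase_locP_fppf Groth.L23.etLocal_lfp)
      hP.isStack.1 hst.1 hP.isStack.1 hr (exists_lift_imgLift h𝒳.isStack)
      ((repWith_precomp hff (FibCat.fpFst z z)).2 (lfp_to_field hN hl))
  have hf' : RepByAlgSpWith (AlgSp.LocP @Flat) (imgLift z) :=
    repWith_of_fpFst_sieve (pBase_locP Groth.L23.etLocal_flat) (isLocalOnBase_locP_fppf Groth.L23.etLocal_flat)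
      hP.isStack.1 hst.1 hP.isStack.1 hr (exists_lift_imgLift h𝒳.isStack)
      ((repWith_precomp hff (FibCat.fpFst z z)).2 (repWith_of_locQ isSmoothLocalST_flat
        (pBase_locP Groth.L23.etLocal_flat) (isLocalOnBase_locP_fppf Groth.L23.etLocal_flat) hN hP
        (repWith_rep1 hl) (locQ_flat_to_field hN _)))
  have hs : IsSurjective (imgLift z) := fun η => by
    obtain ⟨⟨K, str, obj, hobj⟩, rfl⟩ := Points.mk_surjective η
    obtain ⟨G, φ, hφ⟩ := exists_overCat_functor hst.1 obj hobj
    obtain ⟨R, hR, h⟩ := exists_lift_imgLift h𝒳.isStack _ G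
    obtain ⟨V, g, hg⟩ := exists_family_of_mem_J hR
    let t : ↥(Over.mk str).left := (IsLocalRing.closedPoint K : PrimeSpectrum K)
    obtain ⟨hgR, -, -, v, hv⟩ := hg t
    obtain ⟨s, ⟨i⟩⟩ := h (g t) hgR
    refine ⟨Points.map s (ptOver v), ?_⟩
    rw [← map_comp_apply, map_congr i, map_comp_apply, map_overMap_ptOver]
    have : Subsingleton (Points (FibCat.overCat (Over.mk str))) := subsingleton_points_overCat
    rw [Subsingleton.elim (ptOver ((g t).left v))
      (Points.mk ⟨K, str, idObj (Over.mk str), rfl⟩), Points.map_mk]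
    have := hφ.lift (G.w_obj (idObj (Over.mk str)))
    refine Points.sound ⟨⟨K, str, G.obj (idObj (Over.mk str)), G.w_obj _⟩, 𝟙 _, φ.hom, trivial⟩
  have hss := repWith_surjective_of_isSurjective hP.isStack.1 hst.1 hr hs
  exact ⟨Groth.L09.Artin.Model.isAlgStack hst (repWith_inf (pBase_locP Groth.L23.etLocal_lfp) hf' hl') hss, hss⟩

/-- A field point with self-product locally of finite type gives a residual gerbe. -/
theorem resGerbeExists_of_lft (h𝒳 : IsAlgStack Scheme.fppfPrecoverage 𝒳) {k : Type u} [Field k]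
    {a : Spec (CommRingCat.of k) ⟶ S} {z : FibCat.overCat (Over.mk a) ⥤ᵇ 𝒳} (x : Points 𝒳)
    (hx : ∀ t : ↥(Over.mk a).left, Points.ofChart z t = x)
    (hl : RepByAlgSpWith (AlgSp.LocP @LocallyOfFiniteType) (FibCat.fpFst z z)) :
    Gerb.ResGerbeExists Scheme.fppfPrecoverage 𝒳 x := by
  obtain ⟨hA, hs⟩ := imgLift_props' h𝒳 hl
  have : (subIncl 𝒳 (imgProp z)).toFunctor.Full := inferInstanceAs (ObjectProperty.ι (imgProp z)).Full
  have : (subIncl 𝒳 (imgProp z)).toFunctor.Faithful := inferInstanceAs (ObjectProperty.ι (imgProp z)).Faithful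
  have hsub : Subsingleton (Points (fullSub 𝒳 (imgProp z))) := subsingleton_points hA hs
  let t : ↥(Over.mk a).left := (IsLocalRing.closedPoint k : PrimeSpectrum k)
  refine ⟨fullSub 𝒳 (imgProp z), subIncl 𝒳 (imgProp z), hA, Groth.Agent.S12840.result hA h𝒳 _,
    nonempty_points (imgLift z), hsub, fun p => ?_⟩
  rw [Subsingleton.elim p (Points.ofChart (imgLift z) t)]
  exact ((congrFun (map_comp_ofChart (imgLift z) (subIncl 𝒳 (imgProp z))) t).symm).trans (hx t)

/-- A point with locally closed preimage gives an immersion of the fibre. -/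
theorem lft_fst_residue {W U : Scheme.{u}} (b : W ⟶ U) (u : U) (h : IsLocallyClosed (b ⁻¹' {u})) :
    LocallyOfFiniteType (pullback.fst b (U.fromSpecResidueField u)) := by
  have hr : IsLocallyClosed (Set.range (pullback.fst b (U.fromSpecResidueField u))) := by
    rwa [Scheme.Pullback.range_fst, Scheme.range_fromSpecResidueField]
  have : IsImmersion (pullback.fst b (U.fromSpecResidueField u)) := { isLocallyClosed_range := hr }
  infer_instance

/-- Residual gerbes exist at points of charts with locally closed fibres. -/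
theorem resGerbeExists_of_chart (h𝒳 : IsAlgStack Scheme.fppfPrecoverage 𝒳) {U : Over S}
    {y : FibCat.overCat U ⥤ᵇ 𝒳} {P : MorphismProperty Scheme.{u}}
    (hP : ∀ ⦃A B : Scheme.{u}⦄ (φ : A ⟶ B), P φ → LocallyOfFiniteType φ)
    (hy : RepByAlgSpWith (AlgSp.LocP P) y) (u : U.left)
    (hb : ∀ (W : Over S) (a : W ⟶ Over.mk (U.left.fromSpecResidueField u ≫ U.hom)) (b : W ⟶ U),
      P a.left → (∀ w, Points.ofChart y (b.left w) = Points.ofChart y u) → IsLocallyClosed (b.left ⁻¹' {u})) :
    Gerb.ResGerbeExists Scheme.fppfPrecoverage 𝒳 (Points.ofChart y u) := by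
  let Pk : Over S := Over.mk (U.left.fromSpecResidueField u ≫ U.hom)
  let ι : Pk ⟶ U := Over.homMk (U.left.fromSpecResidueField u) rfl
  let z := BasedFunctor.comp (overMap ι) y
  have hι : ∀ t, ι.left t = u := fun t => by
    have : ι.left t ∈ Set.range (U.left.fromSpecResidueField u) := ⟨t, rfl⟩
    rwa [Scheme.range_fromSpecResidueField, Set.mem_singleton_iff] at this
  have hpt : ∀ t, Points.ofChart z t = Points.ofChart y u := fun t => by
    rw [ofChart_overMap_comp, hι]
  refine resGerbeExists_of_lft (k := U.left.residueField u) h𝒳 _ hpt ?_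
  have hk := isAlgStack_overCat Pk
  have hU := isAlgStack_overCat U
  have hN := isAlgStack_fp hk hU h𝒳 z y
  let M := FibCat.fpFst (FibCat.fpSnd z y) (overMap ι)
  have hM : RepByAlgSpWith (AlgSp.LocP @LocallyOfFiniteType) M := by
    obtain ⟨F, e, he, hF⟩ := hy Pk z
    obtain ⟨W, π, hπ, hπs⟩ := F.property.atlas
    let e₀ := BasedFunctor.comp (spChart π) e
    have het : RepByAlgSpWith (AlgSp.RepWith @Etale) e₀ :=
      (repWith_postcomp he _).2 (repWith_spChart F.property hπ)
    have hes : IsSurjective e₀ := isSurjective_comp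
      (isSurjective_of_repWith (overCat_isFibGrpd W) (ofSp_isFibGrpd _)
        ((surjective_spChart_iff F.property π).2 (Groth.L23.surjective_map_of_repWith hπs))) (isSurjective_of_isEquivOver he)
    have hW := isAlgStack_overCat W
    have hmono : ∀ {Q : MorphismProperty Scheme.{u}}, Groth.L23.EtLocal Q →
        (∀ {A B : Scheme.{u}} (φ : A ⟶ B), Etale φ → Q φ) → RepByAlgSpWith (AlgSp.LocP Q) e₀ := fun hQ h =>
      repWith_mono (fun _ _ _ _ h' => Groth.L23.locP_mono h (Groth.L23.locP_of_repWith Groth.L23.etLocal_etale h')) het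
    refine repWith_of_fpFst_locQ (pBase_locP Groth.L23.etLocal_lft) (isLocalOnBase_locP_fppf Groth.L23.etLocal_lft)
      (isAlgStack_fp hN hk hU _ _) hN hW (repWith_rep1 (repWith_fpFst _ ((rep1_iff _).1
        (rep1_overCat hU (overMap ι)))))
      (locQ_of_repWith_locP Groth.L23.etLocal_flat hW hN (hmono Groth.L23.etLocal_flat fun φ h => inferInstance))
      (locQ_of_repWith_locP Groth.L23.etLocal_lfp hW hN (hmono Groth.L23.etLocal_lfp fun φ h => inferInstance))
      hes ?_
    obtain ⟨a, ⟨ia⟩, ha⟩ := exists_overMap_iso (BasedFunctor.comp e₀ (FibCat.fpFst z y))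
    obtain ⟨b, ⟨ib⟩, -⟩ := exists_overMap_iso (BasedFunctor.comp e₀ (FibCat.fpSnd z y))
    have ha' : π ≫ spMapOfOver (BasedFunctor.comp e (FibCat.fpFst z y)) = (AlgSp.yon S).map a ≫ 𝟙 _ := by
      rw [Category.comp_id, ← ha, ← spMapOfOver_ofSpMap_comp]; rfl
    have hPa : P a.left := hF π (𝟙 _) a hπ (Groth.L23.repWith_of_isIso _) ha'
    have hbV : ∀ w, Points.ofChart y (b.left w) = Points.ofChart y u := fun w => by
      rw [← ofChart_overMap_comp b y w, ← hpt (a.left w), ← ofChart_overMap_comp a z w]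
      exact (congrFun (ofChart_congr ((whiskerR ia z).symm ≪≫ whiskerL e₀ (FibCat.fpIso z y) ≪≫ whiskerR ib y)) w).symm
    have := lft_fst_residue b.left u (hb W a b hPa hbV)
    let p := pullback.fst b ι
    let q := pullback.snd b ι
    have sq := (IsPullback.of_hasPullback b ι).map (Over.forget S)
    have hp : LocallyOfFiniteType p.left := by
      have e' : sq.isoPullback.hom ≫ pullback.fst b.left ι.left = p.left := sq.isoPullback_hom_fst
      rw [← e']
      exact @AlgebraicGeometry.locallyOfFiniteType_comp _ _ _ _ _ inferInstance this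
    let L := FibCat.fpLift (overMap p) (overMap q)
      ((overMapCompIso p b).symm ≪≫ eqToIso (congrArg overMap pullback.condition) ≪≫ overMapCompIso q ι)
    have hL : FibCat.IsEquivOver L :=
      Groth.L24.UnivClosed.isEquivOver_pullback (IsPullback.of_hasPullback b ι) (Iso.refl _) L rfl rfl
    have h1 : RepByAlgSpWith (AlgSp.LocP @LocallyOfFiniteType) (FibCat.fpFst (overMap b) (overMap ι)) :=
      (repWith_precomp hL _).1 (repWith_mono (fun _ _ _ _ h => Groth.L23.locP_of_repWith Groth.L23.etLocal_lft h)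
        (repWith_overMap (R := @LocallyOfFiniteType) hp))
    let T := fpMap (F := overMap b) (G := overMap ι) (F' := BasedFunctor.comp e₀ (FibCat.fpSnd z y))
      (G' := overMap ι) (BasedFunctor.id _) (BasedFunctor.id _) ib.symm (Iso.refl _)
    exact (repWith_precomp (fpPaste_isEquivOver e₀ (FibCat.fpSnd z y) (overMap ι)) _).2
      ((repWith_precomp (fpMap_isEquivOver (isEquivOver_id _) (isEquivOver_id _) _ _ : FibCat.IsEquivOver T)
        (FibCat.fpFst (overMap b) (overMap ι))).2 h1)
  have hy' : RepByAlgSpWith (AlgSp.LocP @LocallyOfFiniteType) y :=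
    repWith_mono (fun _ _ _ _ h => Groth.L23.locP_mono (fun φ h => hP φ h) h) hy
  exact (repWith_precomp (fpComp_isEquivOver z (overMap ι) y) (FibCat.fpFst z z)).1
    (repWith_comp_locP Groth.L23.etLocal_lft (L09.Fib.fp_isFibGrpd hN.isStack.1 hk.isStack.1 hU.isStack.1)
      hN.isStack.1 hM (repWith_fpFst z hy'))

end Groth.L09.Residual
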