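import Groth.Agent.L24.St.Rep
import Groth.Agent.L09.GerbBasic
import Groth.Prelude.Def_AlgSt3

/-!
Fully faithful functors into a category over the base: fibre products and images.
-/

set_option autoImplicit false
set_option backward.isDefEq.respectTransparency false
set_option backward.isDefEq.respectTransparency.types false

universe u

open CategoryTheory CategoryTheory.Limits AlgebraicGeometry AlgSt

noncomputable section

namespace Groth.L09.Residual

open Groth.L24.St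

variable {S : Scheme.{u}} {𝒳 𝒴 𝒵 𝒲 : AlgSt.Cat S} {P : MorphismProperty (AlgSp.Sp S)}

theorem overId_reflect (ι : 𝒲 ⥤ᵇ 𝒳) {a b : 𝒲.obj} {m : a ⟶ b} (h : OverId (ι.map m)) : OverId m := by
  have h' : 𝒳.p.IsHomLift (𝟙 (𝒲.p.obj a)) (ι.map m) := h.lift (ι.w_obj a)
  exact overId_of_lift ((BasedFunctor.isHomLift_iff ι _ m).1 h')

section Fp

variable (ι : 𝒲 ⥤ᵇ 𝒳) (G : 𝒴 ⥤ᵇ 𝒲) (z : 𝒵 ⥤ᵇ 𝒲)

/-- The fibre product is unchanged by a fully faithful functor on the common target. -/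
def ffFp : FibCat.fp G z ⥤ᵇ FibCat.fp (BasedFunctor.comp G ι) (BasedFunctor.comp z ι) :=
  FibCat.fpLift (FibCat.fpFst G z) (FibCat.fpSnd G z) (whiskerR (FibCat.fpIso G z) ι :)

theorem ffFp_isEquivOver [ι.toFunctor.Full] [ι.toFunctor.Faithful] : FibCat.IsEquivOver (ffFp ι G z) := by
  have : (ffFp ι G z).toFunctor.Faithful := ⟨fun {w w'} {m m'} h => fp_ext
    (congrArg (fun t : (ffFp ι G z).obj w ⟶ (ffFp ι G z).obj w' => t.hom.fst) h)
    (congrArg (fun t : (ffFp ι G z).obj w ⟶ (ffFp ι G z).obj w' => t.hom.snd) h)⟩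
  have : (ffFp ι G z).toFunctor.Full := ⟨fun {w w'} M => by
    refine ⟨fpHom M.hom.fst M.hom.snd (ι.toFunctor.map_injective ?_), fp_ext rfl rfl⟩
    rw [Functor.map_comp, Functor.map_comp]
    exact M.hom.w⟩
  refine isEquivOver_of_overId _ fun η => ?_
  let i₀ : G.obj η.obj.fst ≅ z.obj η.obj.snd := ι.toFunctor.preimageIso η.obj.iso
  have hi : OverId i₀.hom := overId_reflect ι (by
    show OverId (ι.toFunctor.map (ι.toFunctor.preimage η.obj.iso.hom))
    rw [Functor.map_preimage]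
    exact fp_overId η)
  refine ⟨fpObj η.obj.fst η.obj.snd i₀ hi, fpIsoMk (Iso.refl _) (Iso.refl _) ?_, overId_fp _ (overId_id _)⟩
  show (BasedFunctor.comp G ι).map (𝟙 _) ≫ η.obj.iso.hom =
    ι.map (ι.toFunctor.preimage η.obj.iso.hom) ≫ (BasedFunctor.comp z ι).map (𝟙 _)
  simp
  exact (Category.comp_id _).symm

end Fp

/-- Representability with a property is read after a fully faithful functor. -/
theorem repWith_of_comp_fullFaithful (ι : 𝒲 ⥤ᵇ 𝒳) [ι.toFunctor.Full] [ι.toFunctor.Faithful] (z : 𝒵 ⥤ᵇ 𝒲)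
    (h : RepByAlgSpWith P (BasedFunctor.comp z ι)) : RepByAlgSpWith P z := fun U G =>
  (Wit.transfer (ffFp ι G z) (ffFp_isEquivOver ι G z) (Iso.refl _)).2 (h U (BasedFunctor.comp G ι))

section EssImage

variable (g : 𝒲 ⥤ᵇ 𝒳)

/-- The objects isomorphic to a value of a functor. -/
def essProp : 𝒳.obj → Prop := fun ξ => ∃ w : 𝒲.obj, Nonempty (g.obj w ≅ ξ)

theorem essProp_isClosed : ObjectProperty.IsClosedUnderIsomorphisms (essProp g) :=
  ⟨fun e h => h.imp fun _ ⟨i⟩ => ⟨i ≪≫ e⟩⟩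

/-- A functor onto the full subcategory of its values. -/
def essLift : 𝒲 ⥤ᵇ fullSub 𝒳 (essProp g) where
  toFunctor := ObjectProperty.lift _ g.toFunctor fun w => ⟨w, ⟨Iso.refl _⟩⟩
  w := g.w

theorem essLift_comp : BasedFunctor.comp (essLift g) (subIncl 𝒳 (essProp g)) = g := rfl

theorem essLift_isEquivOver (h𝒳 : FibCat.IsFibGrpd 𝒳.p) (h𝒲 : FibCat.IsFibGrpd 𝒲.p) [g.toFunctor.Full]
    [g.toFunctor.Faithful] : FibCat.IsEquivOver (essLift g) := by
  have : (subIncl 𝒳 (essProp g)).toFunctor.Faithful := inferInstanceAs (ObjectProperty.ι (essProp g)).Faithful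
  have : (essLift g).toFunctor.Full := ⟨fun {a b} m =>
    (g.toFunctor.map_surjective m.hom).imp fun _ h => ObjectProperty.hom_ext _ h⟩
  have : (essLift g).toFunctor.Faithful := ⟨fun {a b} m m' h =>
    g.toFunctor.map_injective (congrArg (fun t : (essLift g).obj a ⟶ (essLift g).obj b => t.hom) h)⟩
  refine isEquivOver_of_overId _ fun η => ?_
  obtain ⟨w, ⟨e⟩⟩ := η.property
  let b : 𝒳.p.obj η.obj ⟶ 𝒲.p.obj w := 𝒳.p.map e.inv ≫ eqToHom (g.w_obj w)
  obtain ⟨w', π, hπ⟩ := L09.Gerb.exists_pull h𝒲 w rfl b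
  have h1 : 𝒳.p.IsHomLift b e.inv := IsHomLift.of_fac' 𝒳.p _ _ rfl (g.w_obj w) (by simp [b])
  have h2 : 𝒳.p.IsHomLift b (g.map π) := inferInstance
  obtain ⟨χ, hχ, -⟩ := L09.Gerb.connect h𝒳 b (g.map π) e.inv
  exact ⟨w', ObjectProperty.isoMk _ χ, overId_reflect (subIncl 𝒳 (essProp g)) (overId_of_lift hχ)⟩

end EssImage

end Groth.L09.Residual
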