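import Groth.Agent.L23.FieldSpace
import Groth.Agent.L23.EqvRel
import Groth.Agent.L23.MonoField
import Groth.Agent.L24.Boot.QuotRep
import Groth.Agent.S9885

/-!
Residual spaces of points of algebraic spaces.
-/

set_option autoImplicit false
set_option backward.isDefEq.respectTransparency false
set_option backward.isDefEq.respectTransparency.types false

universe u

open CategoryTheory CategoryTheory.Limits AlgebraicGeometry Opposite AlgSp

noncomputable section

namespace Groth.L09.Residual

open Groth.L23 Groth.L23.Pt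

variable {S : Scheme.{u}} {X : Sp S}

theorem isOpenImmersion_fst_residue {E U : Scheme.{u}} (g : E ⟶ U) {k : Type u} [Field k]
    (e : E ⟶ Spec (CommRingCat.of k)) [Etale e] (u : U) :
    IsOpenImmersion (pullback.fst g (U.fromSpecResidueField u)) := by
  have := lqf_of_etale e
  have : _root_.AlgebraicGeometry.IsReduced E := isReduced_of_etale e
  exact isOpenImmersion_of_mono_discrete (isOpen_singleton_of_qf e) _

theorem subsingleton_points_of_field {Z : Sp S} {k : Type u} [Field k] {str : Spec (CommRingCat.of k) ⟶ S}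
    {p : (yon S).obj (Over.mk str) ⟶ Z} (hs : Function.Surjective (Points.ofPt p)) :
    Subsingleton (Points Z) := by
  have : Subsingleton ↥(Over.mk str).left := inferInstanceAs (Subsingleton (PrimeSpectrum k))
  exact hs.subsingleton

/-- The kernel pair of the point of an etale chart is etale. -/
theorem exists_etale_kernel (hX : IsAlgSpace X) {U : Over S} {a : (yon S).obj U ⟶ X} (ha : RepWith @Etale a)
    (u : U.left) :
    ∃ (R : Over S) (s t : R ⟶ Over.mk (U.left.fromSpecResidueField u ≫ U.hom)),
      IsPullback ((yon S).map t) ((yon S).map s)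
        ((yon S).map (Over.homMk (U.left.fromSpecResidueField u) rfl) ≫ a)
        ((yon S).map (Over.homMk (U.left.fromSpecResidueField u) rfl) ≫ a) ∧ Etale t.left ∧ Etale s.left := by
  let P : Over S := Over.mk (U.left.fromSpecResidueField u ≫ U.hom)
  let ι : P ⟶ U := Over.homMk (U.left.fromSpecResidueField u) rfl
  let q := (yon S).map ι ≫ a
  obtain ⟨E, e₀, e₁, sq₀⟩ := exists_isPullback_of_representable (hX.representable_from_yon q) a
  have hE : Etale e₀.left := repWith_prop ha sq₀.flip
  let R := pullback e₁ ι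
  let t : R ⟶ P := pullback.fst e₁ ι ≫ e₀
  let s : R ⟶ P := pullback.snd e₁ ι
  have sq : IsPullback ((yon S).map t) ((yon S).map s) q q := by
    have h := ((IsPullback.of_hasPullback e₁ ι).map (yon S)).flip.paste_vert sq₀.flip
    rw [← Functor.map_comp] at h
    exact h.flip
  have sqo : IsPullback (pullback.fst e₁ ι).left (pullback.snd e₁ ι).left e₁.left ι.left :=
    (IsPullback.of_hasPullback e₁ ι).map (Over.forget S)
  have : IsOpenImmersion (pullback.fst e₁ ι).left := by
    have h1 : IsOpenImmersion (pullback.fst e₁.left ι.left) :=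
      isOpenImmersion_fst_residue e₁.left (show E.left ⟶ Spec (CommRingCat.of (U.left.residueField u)) from e₀.left) u
    rw [← sqo.isoPullback_hom_fst]
    infer_instance
  have ht : Etale t.left := by
    show Etale ((pullback.fst e₁ ι).left ≫ e₀.left)
    infer_instance
  refine ⟨R, s, t, sq, ht, ?_⟩
  obtain ⟨σ, hσ⟩ := (yon S).map_surjective (sq.isoIsPullback _ _ sq.flip).inv
  have hst : σ ≫ t = s := (yon S).map_injective (by
    rw [Functor.map_comp, hσ]; exact sq.isoIsPullback_inv_fst _ _ sq.flip)
  have : IsIso ((yon S).map σ) := by rw [hσ]; infer_instance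
  have : IsIso σ := isIso_of_fully_faithful (yon S) σ
  have : IsIso σ.left := inferInstanceAs (IsIso ((Over.forget S).map σ))
  rw [← hst]
  show Etale (σ.left ≫ t.left)
  infer_instance

theorem isEqvRel_of_kernel {R U : Over S} {s t : R ⟶ U} {q : (yon S).obj U ⟶ X}
    (sq : IsPullback ((yon S).map t) ((yon S).map s) q q) : IsEqvRel s t := by
  refine ⟨fun T a b e₁ e₂ => ?_, fun T => ⟨fun a => ?_, ?_, ?_⟩⟩
  · apply (yon S).map_injective
    apply sq.hom_ext <;> rw [← Functor.map_comp, ← Functor.map_comp] <;> simp [e₁, e₂]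
  · obtain ⟨k, k₁, k₂⟩ := sq.exists_lift ((yon S).map a) ((yon S).map a) rfl
    obtain ⟨k, rfl⟩ := (yon S).map_surjective k
    rw [← Functor.map_comp] at k₁ k₂
    exact ⟨k, (yon S).map_injective k₁, (yon S).map_injective k₂⟩
  · rintro a b ⟨l, rfl, rfl⟩
    obtain ⟨k, k₁, k₂⟩ := sq.exists_lift ((yon S).map (l ≫ s)) ((yon S).map (l ≫ t)) (by simp [sq.w])
    obtain ⟨k, rfl⟩ := (yon S).map_surjective k
    rw [← Functor.map_comp] at k₁ k₂
    exact ⟨k, (yon S).map_injective k₁, (yon S).map_injective k₂⟩
  · rintro a b c ⟨l, rfl, hl⟩ ⟨m, hm, rfl⟩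
    obtain ⟨k, k₁, k₂⟩ := sq.exists_lift ((yon S).map (l ≫ t)) ((yon S).map (m ≫ s)) (by
      have e : ∀ x : T ⟶ R, (yon S).map (x ≫ t) ≫ q = (yon S).map (x ≫ s) ≫ q := fun x => by simp [sq.w]
      rw [e l, hl, ← hm, e m])
    obtain ⟨k, rfl⟩ := (yon S).map_surjective k
    rw [← Functor.map_comp] at k₁ k₂
    exact ⟨k, (yon S).map_injective k₁, (yon S).map_injective k₂⟩

/-- The residual space at a point, covered etale by a field. -/
theorem exists_residualSpace (hX : IsAlgSpace X) (x : Points X) :
    ∃ (Z : Sp S) (i : Z ⟶ X) (k : Type u) (_ : Field k) (str : Spec (CommRingCat.of k) ⟶ S)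
      (p : (yon S).obj (Over.mk str) ⟶ Z), IsAlgSpace Z ∧ Mono i ∧ Set.range (Points.map i) = {x} ∧
        RepWith @Etale p ∧ RepWith @Surjective p := by
  obtain ⟨U, a, ha, has⟩ := hX.atlas
  obtain ⟨u, rfl⟩ := surjective_ofPt has x
  obtain ⟨R, s, t, sq, ht, hs⟩ := exists_etale_kernel hX ha u
  let P : Over S := Over.mk (U.left.fromSpecResidueField u ≫ U.hom)
  let ι : P ⟶ U := Over.homMk (U.left.fromSpecResidueField u) rfl
  let q := (yon S).map ι ≫ a
  let π := quotSpπ ((yon S).map s) ((yon S).map t)
  have hker : IsPullback ((yon S).map t) ((yon S).map s) π π :=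
    Groth.L24.Boot.isPullback_quotSpπ (Groth.L24.Boot.isEqvRelSp_of_isEqvRel (isEqvRel_of_kernel sq))
  have : Epi π := coequalizer.π_epi
  have hZ : IsAlgSpace (quotSp ((yon S).map s) ((yon S).map t)) :=
    Groth.L24.Boot.isAlgSpace_of_kernelPair hker (IsAlgSpace.yon_obj R) (IsAlgSpace.yon_obj P)
      (locP_of_repWith etLocal_flat (repWith_map (show Flat t.left from inferInstance)))
      (locP_of_repWith etLocal_lfp (repWith_map (show LocallyOfFinitePresentation t.left from inferInstance)))
  have hπ : Representable π := hZ.representable_from_yon π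
  have : Sheaf.IsLocallySurjective π := (Sheaf.isLocallySurjective_iff_epi' _ π).2 inferInstance
  have := etLocal_etale.{u}.target
  have hπe : RepWith @Etale π := (repWith_iff_of_chart hπ hker).2 hs
  have hss : Surjective s.left := by
    obtain ⟨d, -, hd⟩ := exists_lift_yon sq (𝟙 _) (𝟙 _) rfl
    exact ⟨fun z => ⟨d.left z, by
      rw [← Scheme.Hom.comp_apply, show d.left ≫ s.left = 𝟙 _ from congr_arg CommaMorphism.left hd]; rfl⟩⟩
  have hπs : RepWith @Surjective π := by
    have hp : Function.Surjective (Points.map π) := fun z => by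
      obtain ⟨T, g, τ, rfl⟩ := exists_eq_ofPt z
      obtain ⟨T', φ, v, -, -, hφs, hv⟩ := Groth.L24.Boot.exists_lift_of_epi π g
      obtain ⟨τ', rfl⟩ := hφs.surj τ
      exact ⟨Points.ofPt v τ', by rw [Points.map_ofPt, hv, ofPt_comp]⟩
    exact repWith_surjective_of_map hπ hp
  let i := quotSpDesc q (show (yon S).map s ≫ q = (yon S).map t ≫ q from sq.w.symm)
  have hπi : π ≫ i = q := coequalizer.π_desc q _
  refine ⟨_, i, U.left.residueField u, inferInstance, _, π, hZ, ?_, ?_, hπe, hπs⟩
  · refine mono_of_yon fun T y y' hy => ?_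
    have hA := hπe.1.isPullback y
    have := epi_of_repWith _ (repWith_of_isPullback hA hπe) (repWith_of_isPullback hA hπs)
    rw [← cancel_epi ((yon S).map (hπe.1.snd y))]
    have hB := hπe.1.isPullback ((yon S).map (hπe.1.snd y) ≫ y')
    have := epi_of_repWith _ (repWith_of_isPullback hB hπe) (repWith_of_isPullback hB hπs)
    rw [← cancel_epi ((yon S).map (hπe.1.snd ((yon S).map (hπe.1.snd y) ≫ y')))]
    obtain ⟨l, hl₀, hl₁⟩ := sq.exists_lift
      ((yon S).map (hπe.1.snd ((yon S).map (hπe.1.snd y) ≫ y')) ≫ hπe.1.fst y)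
      (hπe.1.fst ((yon S).map (hπe.1.snd y) ≫ y')) (by
        show _ ≫ q = _ ≫ q
        rw [← hπi, Category.assoc, reassoc_of% hA.w, reassoc_of% hB.w, hy])
    rw [← hA.w, ← hB.w, ← reassoc_of% hl₀, ← reassoc_of% hl₁, hker.w]
  · have hsub := subsingleton_points_of_field (surjective_ofPt hπs)
    have key : Points.map i (Points.ofPt π (IsLocalRing.closedPoint (U.left.residueField u))) = Points.ofPt a u := by
      rw [Points.map_ofPt, hπi]
      show Points.ofPt ((yon S).map ι ≫ a) _ = _
      rw [ofPt_comp]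
      exact congrArg (Points.ofPt a) (Scheme.fromSpecResidueField_apply u _)
    ext y
    constructor
    · rintro ⟨z, rfl⟩
      rw [Subsingleton.elim z (Points.ofPt π (IsLocalRing.closedPoint (U.left.residueField u)))]
      exact key
    · rintro rfl
      exact ⟨_, key⟩

theorem etale_field_props {Z : Sp S} {k : Type u} [Field k] {str : Spec (CommRingCat.of k) ⟶ S}
    {p : (yon S).obj (Over.mk str) ⟶ Z} (hp : RepWith @Etale p) (hs : RepWith @Surjective p) :
    LocP @LocallyOfFinitePresentation p ∧ LocP @Flat p ∧ IsSurjectiveMor p :=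
  ⟨locP_of_repWith etLocal_lfp (repWith_mono (Q := (@LocallyOfFinitePresentation : MorphismProperty Scheme.{u})) (fun φ (hφ : Etale φ) => have := hφ; inferInstance) hp),
    locP_of_repWith etLocal_flat (repWith_mono (Q := (@Flat : MorphismProperty Scheme.{u})) (fun φ (hφ : Etale φ) => have := hφ; inferInstance) hp),
    surjective_map_of_repWith hs⟩

theorem epi_of_fppf {Z : Sp S} (hZ : IsAlgSpace Z) {k : Type u} [Field k] {str : Spec (CommRingCat.of k) ⟶ S}
    (p : (yon S).obj (Over.mk str) ⟶ Z) (hpp : LocP @LocallyOfFinitePresentation p) (hpf : LocP @Flat p)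
    (hps : IsSurjectiveMor p) : Epi p := by
  have hr := hZ.representable_from_yon p
  have := Groth.Agent.S9885.result S _ _ p ((locP_iff_repWith etLocal_flat hZ hr).1 hpf)
    ((locP_iff_repWith etLocal_lfp hZ hr).1 hpp) (repWith_surjective_of_map hr hps)
  infer_instance

/-- A monomorphism with nonempty source into a space covered fppf by a field is an isomorphism. -/
theorem isIso_of_mono_field_cover {Z' Z : Sp S} (hZ' : IsAlgSpace Z') (hZ : IsAlgSpace Z) (f : Z' ⟶ Z) [Mono f]
    [Nonempty (Points Z')] {k : Type u} [Field k] {str : Spec (CommRingCat.of k) ⟶ S}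
    (p : (yon S).obj (Over.mk str) ⟶ Z) (hpp : LocP @LocallyOfFinitePresentation p) (hpf : LocP @Flat p)
    (hps : IsSurjectiveMor p) : IsIso f := by
  have sq := IsPullback.of_hasPullback f p
  have hP := isAlgSpace_of_isPullback hZ.diag hZ' (IsAlgSpace.yon_obj _) sq
  have : Nonempty (Points (pullback f p)) := by
    obtain ⟨z⟩ := ‹Nonempty (Points Z')›
    obtain ⟨y, hy⟩ := hps (Points.map f z)
    obtain ⟨w, -, -⟩ := exists_of_isPullback sq z y hy.symm
    exact ⟨w⟩
  have := (isEmpty_or_isIso_of_mono_to_field str hP (pullback.snd f p)).resolve_left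
    (not_isEmpty_of_nonempty _)
  have := epi_of_fppf hZ p hpp hpf hps
  have : Epi f := epi_of_epi_fac (show (inv (pullback.snd f p) ≫ pullback.fst f p) ≫ f = p by
    rw [Category.assoc, pullback.condition, IsIso.inv_hom_id_assoc])
  exact isIso_of_mono_of_epi f

end Groth.L09.Residual
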