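import Groth.Agent.L09.Residual.FullFaithful
import Groth.Agent.L09.GerbFull
import Groth.Agent.L24.St.Fibrewise
import Groth.Agent.L24.St.Bootstrap

/-!
Bijectivity on isomorphisms between the values of a chart.
-/

set_option autoImplicit false
set_option backward.isDefEq.respectTransparency false
set_option backward.isDefEq.respectTransparency.types false

universe u

open CategoryTheory CategoryTheory.Limits AlgebraicGeometry AlgSt

noncomputable section

namespace Groth.L09.Residual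

open Groth.L24.St

variable {S : Scheme.{u}} {𝒳 𝒴 𝒵 : AlgSt.Cat S} (f : 𝒳 ⥤ᵇ 𝒴)

/-- Vertical isomorphisms between two objects correspond to those of their images. -/
def FFAt (x y : 𝒳.obj) : Prop :=
  (∀ ψ : f.obj x ≅ f.obj y, OverId ψ.hom → ∃ i : x ≅ y, OverId i.hom ∧ f.map i.hom = ψ.hom) ∧
    ∀ i j : x ≅ y, OverId i.hom → OverId j.hom → f.map i.hom = f.map j.hom → i = j

variable {f}

theorem FFAt.congr {x y x' y' : 𝒳.obj} (h : FFAt f x y) (α : x' ≅ x) (β : y' ≅ y) (hα : OverId α.hom)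
    (hβ : OverId β.hom) : FFAt f x' y' := by
  refine ⟨fun ψ hψ => ?_, fun i j hi hj e => ?_⟩
  · obtain ⟨i, hi, hiψ⟩ := h.1 (f.toFunctor.mapIso α.symm ≪≫ ψ ≪≫ f.toFunctor.mapIso β)
      (((OverId.inv hα).map f).comp (hψ.comp (hβ.map f)))
    refine ⟨α ≪≫ i ≪≫ β.symm, hα.comp (hi.comp (OverId.inv hβ)), ?_⟩
    simp only [Iso.trans_hom, Functor.map_comp, hiψ, Functor.mapIso_hom, Iso.symm_hom, Category.assoc,
      ← Functor.map_comp_assoc, Iso.hom_inv_id, CategoryTheory.Functor.map_id, Category.id_comp]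
    rw [← Functor.map_comp, Iso.hom_inv_id, CategoryTheory.Functor.map_id, Category.comp_id]
  · have e' : α.symm ≪≫ i ≪≫ β = α.symm ≪≫ j ≪≫ β :=
      h.2 _ _ ((OverId.inv hα).comp (hi.comp hβ)) ((OverId.inv hα).comp (hj.comp hβ))
        (by simp only [Iso.trans_hom, Functor.map_comp, e])
    ext
    have := congrArg (fun t => α.hom ≫ t.hom ≫ β.inv) e'
    simpa using this

theorem ffAt_of_comp {𝒲 : AlgSt.Cat S} (ι : 𝒲 ⥤ᵇ 𝒳) [ι.toFunctor.Full] [ι.toFunctor.Faithful] {x y : 𝒲.obj}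
    (h : FFAt f (ι.obj x) (ι.obj y)) : FFAt (BasedFunctor.comp ι f) x y := by
  refine ⟨fun ψ hψ => ?_, fun i j hi hj e => ?_⟩
  · obtain ⟨i, hi, hiψ⟩ := h.1 ψ hψ
    refine ⟨ι.toFunctor.preimageIso i, overId_reflect ι ?_, ?_⟩
    · show OverId (ι.toFunctor.map (ι.toFunctor.preimage i.hom))
      rw [Functor.map_preimage]; exact hi
    · show f.map (ι.toFunctor.map (ι.toFunctor.preimage i.hom)) = _
      rw [Functor.map_preimage]; exact hiψ
  · have e' := h.2 (ι.toFunctor.mapIso i) (ι.toFunctor.mapIso j) (hi.map ι) (hj.map ι) e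
    exact Iso.ext (ι.toFunctor.map_injective (congrArg Iso.hom e'))

variable {z : 𝒵 ⥤ᵇ 𝒳}

/-- An equivalence of the two self fibre products of a chart. -/
theorem ffAt_of_isEquivOver (h : FibCat.IsEquivOver (ffFp f z z)) (a b : 𝒵.obj) : FFAt f (z.obj a) (z.obj b) := by
  obtain ⟨_, _⟩ := eqv_fullFaithful h
  refine ⟨fun ψ hψ => ?_, fun i j hi hj e => ?_⟩
  · obtain ⟨G, -, -, ⟨κ⟩⟩ := exists_inverse h
    let η : (FibCat.fp (BasedFunctor.comp z f) (BasedFunctor.comp z f)).obj :=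
      fpObj (F := BasedFunctor.comp z f) (G := BasedFunctor.comp z f) a b ψ hψ
    let w := G.obj η
    let K : (ffFp f z z).obj w ≅ η := ((BasedNatTrans.forgetful _ _).mapIso κ).app η
    have hK : OverId K.hom := overId_app κ.hom η
    let α : w.obj.fst ≅ a := (FibCat.fpFst _ _).toFunctor.mapIso K
    let β : w.obj.snd ≅ b := (FibCat.fpSnd _ _).toFunctor.mapIso K
    refine ⟨(z.toFunctor.mapIso α).symm ≪≫ w.obj.iso ≪≫ z.toFunctor.mapIso β,
      (OverId.inv (i := z.toFunctor.mapIso α) ((hK.map (FibCat.fpFst _ _)).map z)).comp ((fp_overId w).comp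
        ((hK.map (FibCat.fpSnd _ _)).map z)), ?_⟩
    have hw : f.map (z.map α.hom) ≫ ψ.hom = f.map w.obj.iso.hom ≫ f.map (z.map β.hom) := K.hom.hom.w
    simp only [Iso.trans_hom, Iso.symm_hom, Functor.map_comp, Functor.mapIso_inv, Functor.mapIso_hom, ← hw]
    simp only [← Functor.map_comp, ← Functor.map_comp_assoc, ← Category.assoc, Iso.inv_hom_id,
      CategoryTheory.Functor.map_id, Category.id_comp]
  · let w₁ : (FibCat.fp z z).obj := fpObj a b i hi
    let w₂ : (FibCat.fp z z).obj := fpObj a b j hj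
    let M : (ffFp f z z).obj w₁ ⟶ (ffFp f z z).obj w₂ := fpHom (𝟙 _) (𝟙 _) (by
      show (BasedFunctor.comp z f).map (𝟙 a) ≫ f.map j.hom = f.map i.hom ≫ (BasedFunctor.comp z f).map (𝟙 b)
      simp [e]
      exact (Category.comp_id _).symm)
    obtain ⟨m, hm⟩ := (ffFp f z z).toFunctor.map_surjective M
    have h1 : m.hom.fst = 𝟙 a := congrArg (fun t : (ffFp f z z).obj w₁ ⟶ (ffFp f z z).obj w₂ => t.hom.fst) hm
    have h2 : m.hom.snd = 𝟙 b := congrArg (fun t : (ffFp f z z).obj w₁ ⟶ (ffFp f z z).obj w₂ => t.hom.snd) hm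
    have hw := m.hom.w
    rw [h1, h2] at hw
    change z.map (𝟙 a) ≫ j.hom = i.hom ≫ z.map (𝟙 b) at hw
    simp at hw
    exact Iso.ext hw.symm

variable (f z) in
/-- A pair of objects of the chart with bijective comparison of isomorphisms. -/
def GoodPair (η : (FibCat.fp (BasedFunctor.comp z f) (BasedFunctor.comp z f)).obj) : Prop :=
  FFAt f (z.obj η.obj.fst) (z.obj η.obj.snd)

/-- Bijectivity at the values of a functor makes the base change an equivalence. -/
theorem isEquivOver_fpFst_ffFp (h𝒳 : FibCat.IsFibGrpd 𝒳.p) (h𝒴 : FibCat.IsFibGrpd 𝒴.p) {𝒯 : AlgSt.Cat S}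
    (y : 𝒯 ⥤ᵇ FibCat.fp (BasedFunctor.comp z f) (BasedFunctor.comp z f)) (hy : ∀ t, GoodPair f z (y.obj t)) :
    FibCat.IsEquivOver (FibCat.fpFst y (ffFp f z z)) := by
  let L := ffFp f z z
  have : L.toFunctor.Faithful := ⟨fun {w w'} {m m'} h => fp_ext
    (congrArg (fun t : L.obj w ⟶ L.obj w' => t.hom.fst) h)
    (congrArg (fun t : L.obj w ⟶ L.obj w' => t.hom.snd) h)⟩
  have : (FibCat.fpFst y L).toFunctor.Faithful := ⟨fun {v v'} {m m'} h => by
    have h' : m.hom.fst = m'.hom.fst := h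
    refine fp_ext h' (L.toFunctor.map_injective ((cancel_epi v.obj.iso.hom).1 ?_))
    rw [← m.hom.w, ← m'.hom.w, h']⟩
  have : (FibCat.fpFst y L).toFunctor.Full := ⟨fun {v v'} m₁ => by
    change v.obj.fst ⟶ v'.obj.fst at m₁
    let M : L.obj v.obj.snd ⟶ L.obj v'.obj.snd := v.obj.iso.inv ≫ y.map m₁ ≫ v'.obj.iso.hom
    let w := v.obj.snd
    let w' := v'.obj.snd
    let α : w.obj.fst ⟶ w'.obj.fst := M.hom.fst
    let β : w.obj.snd ⟶ w'.obj.snd := M.hom.snd
    have hg : FFAt f (z.obj w.obj.fst) (z.obj w.obj.snd) := (hy v.obj.fst).congr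
      (z.toFunctor.mapIso ((FibCat.fpFst _ _).toFunctor.mapIso v.obj.iso.symm))
      (z.toFunctor.mapIso ((FibCat.fpSnd _ _).toFunctor.mapIso v.obj.iso.symm))
      (((OverId.inv (fp_overId v)).map (FibCat.fpFst _ _)).map z)
      (((OverId.inv (fp_overId v)).map (FibCat.fpSnd _ _)).map z)
    have hw : f.map (z.map α) ≫ f.map w'.obj.iso.hom = f.map w.obj.iso.hom ≫ f.map (z.map β) := M.hom.w
    rw [← Functor.map_comp, ← Functor.map_comp] at hw
    let base := 𝒳.p.map (w.obj.iso.hom ≫ z.map β)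
    have l₁ : 𝒳.p.IsHomLift base (w.obj.iso.hom ≫ z.map β) := IsHomLift.map _ _
    have l₂ : 𝒳.p.IsHomLift base (z.map α ≫ w'.obj.iso.hom) := IsHomLift.of_fac' 𝒳.p _ _ rfl rfl (by
      have e : 𝒳.p.map (z.map α ≫ w'.obj.iso.hom) = 𝒳.p.map (w.obj.iso.hom ≫ z.map β) := by
        have := congrArg (fun t => eqToHom (f.w_obj _).symm ≫ 𝒴.p.map t ≫ eqToHom (f.w_obj _)) hw
        simpa [p_map_map] using this
      simp [base, e])
    obtain ⟨χ, hχ, hχe⟩ := L09.Gerb.connect h𝒳 base (z.map α ≫ w'.obj.iso.hom) (w.obj.iso.hom ≫ z.map β)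
    have hib : 𝒳.p.IsHomLift (𝒳.p.map (z.map β)) (z.map β) := IsHomLift.map _ _
    have hχ' := overId_of_lift hχ
    have key : f.map (χ.hom ≫ w.obj.iso.hom) = f.map w.obj.iso.hom := by
      have := Fib.stronglyCartesian_of_isFibGrpd 𝒴.p h𝒴 (𝒴.p.map (f.map (z.map β))) (f.map (z.map β))
      obtain ⟨e₁, he₁⟩ := (((hχ'.comp (fp_overId w)).map f)).eq
      obtain ⟨e₂, he₂⟩ := ((fp_overId w).map f).eq
      have := ((hχ'.comp (fp_overId w)).map f).lift rfl
      have hd : 𝒴.p.IsHomLift (eqToHom e₁) (f.map (χ.hom ≫ w.obj.iso.hom)) := IsHomLift.of_fac' 𝒴.p _ _ rfl rfl (by rw [he₁]; simp)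
      have hd' : 𝒴.p.IsHomLift (eqToHom e₁) (f.map w.obj.iso.hom) := IsHomLift.of_fac' 𝒴.p _ _ rfl rfl (by rw [he₂]; simp)
      refine Functor.IsStronglyCartesian.ext 𝒴.p (𝒴.p.map (f.map (z.map β))) (f.map (z.map β)) (eqToHom e₁) ?_
      rw [← Functor.map_comp, ← Functor.map_comp, Category.assoc, hχe, hw]
    have hi := hg.2 (χ ≪≫ w.obj.iso) w.obj.iso (hχ'.comp (fp_overId w)) (fp_overId w) key
    have : χ.hom = 𝟙 _ := (cancel_mono w.obj.iso.hom).1 ((congrArg Iso.hom hi).trans (Category.id_comp _).symm)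
    rw [this, Category.id_comp] at hχe
    let m₂ : w ⟶ w' := fpHom α β hχe.symm
    refine ⟨fpHom m₁ m₂ ?_, rfl⟩
    show y.map m₁ ≫ v'.obj.iso.hom = v.obj.iso.hom ≫ L.map m₂
    rw [show L.map m₂ = M from fp_ext rfl rfl, Iso.hom_inv_id_assoc]⟩
  refine isEquivOver_of_overId _ fun t => ?_
  let η := y.obj t
  obtain ⟨i, hi, hiψ⟩ := (hy t).1 η.obj.iso (fp_overId η)
  let w : (FibCat.fp z z).obj := fpObj η.obj.fst η.obj.snd i hi
  let K : η ≅ L.obj w := fpIsoMk (Iso.refl _) (Iso.refl _) (by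
    show (BasedFunctor.comp z f).map (𝟙 _) ≫ f.map i.hom = η.obj.iso.hom ≫ (BasedFunctor.comp z f).map (𝟙 _)
    simp [hiψ])
  exact ⟨fpObj t w K (overId_fp _ (overId_id _)), Iso.refl _, overId_id _⟩

end Groth.L09.Residual
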