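import Groth.Agent.L23.Decent3
import Groth.Agent.L23.FieldSpace
import Groth.Agent.L23.FieldMono

/-!
Reduced spaces mapping to a monomorphic quasi-compact point.
-/

set_option autoImplicit false
set_option backward.isDefEq.respectTransparency false
set_option backward.isDefEq.respectTransparency.types false

universe u

open CategoryTheory CategoryTheory.Limits AlgebraicGeometry Opposite AlgSp

noncomputable section

namespace Groth.L09.Residual

open Groth.L23 Groth.L23.Pt

/-- A morphism from a reduced affine scheme with a single point as image factors through the residue field. -/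
theorem exists_factor_residue {W U : Scheme.{u}} [IsAffine W] [_root_.AlgebraicGeometry.IsReduced W] (h : W ⟶ U)
    (u : U) (hu : ∀ w, h w = u) : ∃ l : W ⟶ Spec (U.residueField u), l ≫ U.fromSpecResidueField u = h := by
  obtain ⟨_, ⟨V, hV, rfl⟩, huV, -⟩ :=
    U.isBasis_affineOpens.exists_subset_of_mem_open (Set.mem_univ u) isOpen_univ
  change U.Opens at V
  have hr : Set.range h ⊆ Set.range hV.fromSpec := by
    rw [hV.range_fromSpec]
    rintro _ ⟨w, rfl⟩
    rw [hu]; exact huV
  let h' := IsOpenImmersion.lift hV.fromSpec h hr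
  obtain ⟨φ, hφ⟩ := Spec.map_surjective (W.isoSpec.inv ≫ h')
  let p : PrimeSpectrum Γ(U, V) := hV.primeIdealOf ⟨u, huV⟩
  have hpu : hV.fromSpec p = u := hV.fromSpec_primeIdealOf ⟨u, huV⟩
  have hcomap : ∀ q : PrimeSpectrum Γ(W, ⊤), PrimeSpectrum.comap φ.hom q = p := fun q => by
    apply hV.fromSpec.isOpenEmbedding.injective
    rw [hpu, ← hu (W.isoSpec.inv q)]
    show hV.fromSpec ((Spec.map φ) q) = _
    rw [hφ, ← Scheme.Hom.comp_apply, Category.assoc, IsOpenImmersion.lift_fac]
    rfl
  have hk : p.asIdeal ≤ RingHom.ker φ.hom := fun a ha => by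
    refine IsReduced.eq_zero _ (nilpotent_iff_mem_prime.2 fun J hJ => ?_)
    rw [← congrArg PrimeSpectrum.asIdeal (hcomap ⟨J, hJ⟩)] at ha
    exact ha
  have hunit : p.asIdeal.primeCompl ≤ (IsUnit.submonoid Γ(W, ⊤)).comap φ.hom := fun a ha => by
    by_contra hn
    obtain ⟨J, hJ, haJ⟩ := exists_max_ideal_of_mem_nonunits (show φ.hom a ∈ nonunits _ from hn)
    refine ha ?_
    rw [← congrArg PrimeSpectrum.asIdeal (hcomap ⟨J, hJ.isPrime⟩)]
    exact haJ
  let ψ := Ideal.ResidueField.lift p.asIdeal φ.hom hk hunit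
  let ρ : CommRingCat.of Γ(U, V) ⟶ CommRingCat.of p.asIdeal.ResidueField :=
    CommRingCat.ofHom (algebraMap Γ(U, V) p.asIdeal.ResidueField)
  let c : Spec (CommRingCat.of p.asIdeal.ResidueField) ⟶ U := Spec.map ρ ≫ hV.fromSpec
  have hc : c (IsLocalRing.closedPoint p.asIdeal.ResidueField) = u := by
    rw [← hpu]
    show hV.fromSpec ((Spec.map ρ) _) = _
    refine congrArg hV.fromSpec (PrimeSpectrum.ext ?_)
    show Ideal.comap (algebraMap Γ(U, V) p.asIdeal.ResidueField) _ = p.asIdeal
    rw [show (IsLocalRing.closedPoint p.asIdeal.ResidueField).asIdeal = ⊥ from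
      IsLocalRing.isField_iff_maximalIdeal_eq.1 (Field.toIsField _)]
    exact Ideal.ker_algebraMap_residueField _
  have hfac : W.isoSpec.hom ≫ Spec.map (CommRingCat.ofHom ψ) ≫ c = h := by
    have e : ρ ≫ CommRingCat.ofHom ψ = φ := by
      ext a
      exact Ideal.ResidueField.lift_algebraMap (I := p.asIdeal) (f := φ.hom) hk hunit a
    show W.isoSpec.hom ≫ Spec.map (CommRingCat.ofHom ψ) ≫ Spec.map ρ ≫ hV.fromSpec = h
    rw [← Spec.map_comp_assoc, e, hφ, Category.assoc, IsOpenImmersion.lift_fac, Iso.hom_inv_id_assoc]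
  have hd := U.descResidueField_stalkClosedPointTo_fromSpecResidueField p.asIdeal.ResidueField c
  revert hd
  rw [← hc]
  intro hd
  exact ⟨W.isoSpec.hom ≫ Spec.map (CommRingCat.ofHom ψ) ≫ Spec.map (Scheme.descResidueField (Scheme.stalkClosedPointTo c)), by
    rw [Category.assoc, Category.assoc, hd, hfac]⟩

variable {S : Scheme.{u}} {X : Sp S}

theorem exists_open_fibre_singleton (hX : IsAlgSpace X) (p : FieldPt X) [Mono p.toHom]
    (hq : RepWith @QuasiCompact p.toHom) {U : Over S} {a : (yon S).obj U ⟶ X} (ha : RepWith @Etale a) (u : U.left)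
    (hu : Points.ofPt a u = Points.mk p) :
    ∃ O : U.left.Opens, u ∈ O ∧ ∀ v ∈ O, Points.ofPt a v = Points.mk p → v = u := by
  have hfib := (qc_iff_finite_fibres hX p).1 hq
  obtain ⟨_, ⟨B, hB, rfl⟩, huB, -⟩ :=
    U.left.isBasis_affineOpens.exists_subset_of_mem_open (Set.mem_univ u) isOpen_univ
  change U.left.Opens at B
  have hb := repWith_comp (repWith_etale_openMk B) ha
  let C : Set U.left := (fun w : (B : Scheme.{u}) => w.1) '' {w | Points.ofPt a w.1 = Points.mk p}
  have hC : C.Finite := by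
    refine Set.Finite.image _ ((hfib _ _ (show IsAffine (B : Scheme.{u}) from hB) hb).subset fun w hw => ?_)
    exact (ofPt_openMk B a w).trans hw
  let D := ⋃ v ∈ C \ {u}, closure ({v} : Set U.left)
  have hD : IsClosed D := hC.diff.isClosed_biUnion fun v _ => isClosed_closure
  refine ⟨⟨(B : Set U.left) \ D, B.isOpen.sdiff hD⟩, ⟨huB, fun h => ?_⟩, fun v hv hvp => ?_⟩
  · obtain ⟨v, ⟨hvC, hne⟩, hvu⟩ := Set.mem_iUnion₂.1 h
    obtain ⟨w, hw, rfl⟩ := hvC
    exact hne (eq_of_specializes_of_finite_fibres hX hfib ha u w.1 hu hw (specializes_iff_mem_closure.2 hvu)).symm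
  · by_contra hne
    exact hv.2 (Set.mem_iUnion₂.2 ⟨v, ⟨⟨⟨v, hv.1⟩, hvp, rfl⟩, hne⟩, subset_closure rfl⟩)

/-- A reduced space mapping into a monomorphic quasi-compact point factors through it. -/
theorem exists_factor_point {Y : Sp S} (hY : IsAlgSpace Y) (hX : IsAlgSpace X) (f : Y ⟶ X) (p : FieldPt X)
    [Mono p.toHom] (hq : RepWith @QuasiCompact p.toHom)
    (hr : EtaleLocally (fun U => _root_.AlgebraicGeometry.IsReduced U) Y)
    (hf : ∀ y, Points.map f y = Points.mk p) : ∃ g : Y ⟶ (yon S).obj p.pt, g ≫ p.toHom = f := by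
  obtain ⟨V, b, hb, hbs, hV⟩ := hr
  obtain ⟨U, a, ha, has⟩ := hX.atlas
  obtain ⟨W, h, q, sW⟩ := exists_isPullback_of_representable (hX.representable_from_yon a) (b ≫ f)
  have : Etale q.left := repWith_prop ha sW
  have hqs : RepWith @Surjective ((yon S).map q) := repWith_of_isPullback sW has
  have hqe : RepWith @Etale ((yon S).map q) := repWith_of_isPullback sW ha
  have : _root_.AlgebraicGeometry.IsReduced V.left := hV
  have : _root_.AlgebraicGeometry.IsReduced W.left := isReduced_of_etale q.left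
  have hfib : ∀ w, Points.ofPt a (h.left w) = Points.mk p := fun w => by
    rw [← ofPt_comp, sW.w, ofPt_comp, ← Points.map_ofPt]
    exact hf _
  obtain ⟨T, c, t₂, sT, -, -, hrange⟩ := exists_fibre hX p a ha
  have : Mono ((yon S).map t₂) := sT.mono_snd_of_mono
  have : Mono t₂ := (yon S).mono_of_mono_map this
  have : Mono t₂.left := inferInstanceAs (Mono ((Over.forget S).map t₂))
  have hres : ∀ u, Points.ofPt a u = Points.mk p →
      ∃ l : Spec (U.left.residueField u) ⟶ T.left, l ≫ t₂.left = U.left.fromSpecResidueField u := by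
    intro u hu
    let j := pullback.fst (U.left.fromSpecResidueField u) t₂.left
    obtain ⟨τ, hτ⟩ := hrange.symm ▸ (show u ∈ Points.ofPt a ⁻¹' {Points.mk p} from hu)
    obtain ⟨z, -, -⟩ := Scheme.Pullback.exists_preimage_pullback (f := U.left.fromSpecResidueField u) (g := t₂.left)
      (IsLocalRing.closedPoint (U.left.residueField u)) τ
      ((Scheme.fromSpecResidueField_apply u _).trans hτ.symm)
    have : IsIso j := Groth.L23.isIso_of_mono_to_field j z
    exact ⟨inv j ≫ pullback.snd _ _, by rw [Category.assoc, ← pullback.condition, IsIso.inv_hom_id_assoc]⟩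
  have hloc : ∀ w : W.left, ∃ A : W.left.Opens, w ∈ A ∧ ∃ l : (A : Scheme.{u}) ⟶ T.left, l ≫ t₂.left = A.ι ≫ h.left := by
    intro w
    obtain ⟨O, hwO, hO⟩ := exists_open_fibre_singleton hX p hq ha (h.left w) (hfib w)
    obtain ⟨_, ⟨A, hA, rfl⟩, hwA, hAO⟩ :=
      W.left.isBasis_affineOpens.exists_subset_of_mem_open (show w ∈ h.left ⁻¹ᵁ O from hwO) (h.left ⁻¹ᵁ O).isOpen
    change W.left.Opens at A
    have : IsAffine (A : Scheme.{u}) := hA
    have : _root_.AlgebraicGeometry.IsReduced (A : Scheme.{u}) := isReduced_of_isOpenImmersion A.ι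
    obtain ⟨l, hl⟩ := exists_factor_residue (A.ι ≫ h.left) (h.left w) fun v => hO _ (hAO v.2) (hfib _)
    obtain ⟨m, hm⟩ := hres (h.left w) (hfib w)
    exact ⟨A, hwA, l ≫ m, by rw [Category.assoc, hm, hl]⟩
  choose A hA l hl using hloc
  let 𝒰 : W.left.OpenCover := W.left.openCoverOfIsOpenCover A
    (top_le_iff.1 fun w _ => TopologicalSpace.Opens.mem_iSup.2 ⟨w, hA w⟩)
  have hcompat : ∀ i j, pullback.fst (𝒰.f i) (𝒰.f j) ≫ l i = pullback.snd (𝒰.f i) (𝒰.f j) ≫ l j := fun i j => by
    rw [← cancel_mono t₂.left, Category.assoc, Category.assoc, hl, hl]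
    exact pullback.condition_assoc _
  let m := 𝒰.glueMorphisms l hcompat
  have hm : m ≫ t₂.left = h.left := 𝒰.hom_ext _ _ fun i => by
    rw [𝒰.ι_glueMorphisms_assoc l hcompat i]
    exact hl i
  let m' : W ⟶ T := Over.homMk m (by rw [← Over.w t₂, ← Category.assoc, hm]; exact Over.w h)
  have hm' : m' ≫ t₂ = h := Over.OverMorphism.ext hm
  have hk : (yon S).map (m' ≫ c) ≫ p.toHom = (yon S).map q ≫ b ≫ f := by
    rw [Functor.map_comp, Category.assoc, sT.w, ← Functor.map_comp_assoc, hm', sW.w]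
  have sP := IsPullback.of_hasPullback f p.toHom
  have : Mono (pullback.fst f p.toHom) := sP.mono_fst_of_mono
  have := epi_of_repWith _ hb hbs
  have := epi_of_repWith _ hqe hqs
  have : Epi (pullback.fst f p.toHom) :=
    epi_of_epi_fac (show pullback.lift ((yon S).map q ≫ b) ((yon S).map (m' ≫ c))
      (by rw [Category.assoc, hk]) ≫ pullback.fst f p.toHom = (yon S).map q ≫ b from pullback.lift_fst _ _ _)
  have := isIso_of_mono_of_epi (pullback.fst f p.toHom)
  exact ⟨inv (pullback.fst f p.toHom) ≫ pullback.snd f p.toHom, by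
    rw [Category.assoc, ← pullback.condition, IsIso.inv_hom_id_assoc]⟩

end Groth.L09.Residual
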