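import Groth.Agent.L09.Residual.Factor
import Groth.Agent.L09.Residual.Space
import Groth.Agent.L09.ElemSq.Basic
import Groth.Agent.L19.Closure
import Groth.Agent.L23.RedInd

/-!
Reduced spaces mapping onto a point of a locally Noetherian space factor through its residual space.
-/

set_option autoImplicit false
set_option backward.isDefEq.respectTransparency false
set_option backward.isDefEq.respectTransparency.types false

universe u

open CategoryTheory CategoryTheory.Limits AlgebraicGeometry Opposite AlgSp TopologicalSpace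

noncomputable section

namespace Groth.L09.Residual

open Groth.L23 Groth.L23.Pt

variable {S : Scheme.{u}} {X : Sp S}

/-- The image of a quasi-compact morphism in a fibre of a chart is finite. -/
theorem finite_range_in_fibre (hX : IsAlgSpace X) (hN : IsLocNoethSp X) {U : Over S} [IsAffine U.left]
    {a : (yon S).obj U ⟶ X} (ha : RepWith @Etale a) (x : Points X) {W : Scheme.{u}} (g : W ⟶ U.left) [QuasiCompact g]
    (hg : ∀ w, Points.ofPt a (g w) = x) : (Set.range g).Finite := by
  have := isLocallyNoetherian_of_chart hX hN ha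
  haveI : IsNoetherian U.left := ⟨⟩
  obtain ⟨F, hF, hs⟩ := NoetherianSpace.exists_finset_irreducible (⟨closure (Set.range g), isClosed_closure⟩ : Closeds U.left)
  choose η hη using fun k : F => QuasiSober.sober (hF k) k.1.isClosed
  refine (Set.finite_range η).subset ?_
  rintro _ ⟨w, rfl⟩
  have hw : g w ∈ F.sup id := by rw [← hs]; exact subset_closure ⟨w, rfl⟩
  obtain ⟨k, hkF, hk⟩ : ∃ k ∈ F, g w ∈ (k : Set U.left) := by
    rw [← SetLike.mem_coe, Closeds.coe_finset_sup, Finset.sup_set_eq_biUnion] at hw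
    simpa using hw
  have hk' : η ⟨k, hkF⟩ ⤳ g w := (hη ⟨k, hkF⟩).specializes hk
  have hmem : η ⟨k, hkF⟩ ∈ closure (Set.range g) := by
    have : k ≤ F.sup id := Finset.le_sup (f := id) hkF
    rw [← hs] at this
    exact this (hη ⟨k, hkF⟩).mem
  obtain ⟨w', hw'⟩ := Groth.L19.exists_specializes_of_mem_closure_range g hmem
  refine ⟨⟨k, hkF⟩, ?_⟩
  have e := eq_of_specializes_of_isLocNoethSp hX hN ha (g w) (g w') ((hg w).trans (hg w').symm) (hw'.trans hk')
  rw [← e] at hw'
  exact (hk'.antisymm hw').eq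

/-- The residue field of a point over `x` factors through the residual space. -/
theorem exists_lift_residue (hX : IsAlgSpace X) {Z : Sp S} (hZ : IsAlgSpace Z) (i : Z ⟶ X) [Mono i] (x : Points X)
    (hi : Set.range (Points.map i) = {x}) {U : Over S} (a : (yon S).obj U ⟶ X) (u : U.left)
    (hu : Points.ofPt a u = x) :
    ∃ l : (yon S).obj (Over.mk (U.left.fromSpecResidueField u ≫ U.hom)) ⟶ Z,
      l ≫ i = (yon S).map (Over.homMk (U.left.fromSpecResidueField u) rfl :
        Over.mk (U.left.fromSpecResidueField u ≫ U.hom) ⟶ U) ≫ a := by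
  let m := (yon S).map (Over.homMk (U.left.fromSpecResidueField u) rfl :
    Over.mk (U.left.fromSpecResidueField u ≫ U.hom) ⟶ U) ≫ a
  have sq := IsPullback.of_hasPullback i m
  obtain ⟨z, hz⟩ := hi.symm ▸ Set.mem_singleton x
  let pt := IsLocalRing.closedPoint (U.left.residueField u)
  obtain ⟨w, -, -⟩ := exists_of_isPullback sq z (Points.ofScheme (Over.mk (U.left.fromSpecResidueField u ≫ U.hom)) pt) (by
    rw [hz, ← Points.ofPt_eq_map_ofScheme, ofPt_comp, ← hu]
    congr 1
    exact (Scheme.fromSpecResidueField_apply u pt).symm)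
  haveI : Mono (pullback.snd i m) := sq.mono_snd_of_mono
  haveI := (isEmpty_or_isIso_of_mono_to_field (U.left.fromSpecResidueField u ≫ U.hom)
    (isAlgSpace_of_isPullback hX.diag hZ (IsAlgSpace.yon_obj _) sq) (pullback.snd i m)).resolve_left fun h => h.false w
  exact ⟨inv (pullback.snd i m) ≫ pullback.fst i m, by rw [Category.assoc, pullback.condition, IsIso.inv_hom_id_assoc]⟩

/-- Reduced spaces over a point factor through the residual space. -/
theorem exists_factor_residual (hX : IsAlgSpace X) (hN : IsLocNoethSp X) {Y : Sp S} (f : Y ⟶ X)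
    (hr : EtaleLocally (fun U => _root_.AlgebraicGeometry.IsReduced U) Y) {Z : Sp S} (hZ : IsAlgSpace Z)
    (i : Z ⟶ X) [Mono i] (x : Points X) (hi : Set.range (Points.map i) = {x}) (hf : ∀ y, Points.map f y = x) :
    ∃ g : Y ⟶ Z, g ≫ i = f := by
  obtain ⟨V, b, hb, hbs, hV⟩ := hr
  obtain ⟨U, a, ha, has⟩ := hX.atlas
  obtain ⟨W, h, q, sW⟩ := exists_isPullback_of_representable (hX.representable_from_yon a) (b ≫ f)
  have : Etale q.left := repWith_prop ha sW
  have hqs : RepWith @Surjective ((yon S).map q) := repWith_of_isPullback sW has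
  have hqe : RepWith @Etale ((yon S).map q) := repWith_of_isPullback sW ha
  have : _root_.AlgebraicGeometry.IsReduced V.left := hV
  have : _root_.AlgebraicGeometry.IsReduced W.left := isReduced_of_etale q.left
  have hfib : ∀ w, Points.ofPt a (h.left w) = x := fun w => by
    rw [← ofPt_comp, sW.w, ofPt_comp, ← Points.map_ofPt]
    exact hf _
  have hloc : ∀ w : W.left, ∃ (O : W.left.Opens) (y : (yon S).obj (ElemSq.openObj O) ⟶ Z),
      w ∈ O ∧ y ≫ i = (yon S).map (ElemSq.openInc O ≫ h) ≫ a := by
    intro w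
    obtain ⟨_, ⟨B, hB, rfl⟩, hwB, -⟩ :=
      U.left.isBasis_affineOpens.exists_subset_of_mem_open (Set.mem_univ (h.left w)) isOpen_univ
    change U.left.Opens at B
    obtain ⟨_, ⟨A, hA, rfl⟩, hwA, hAB⟩ :=
      W.left.isBasis_affineOpens.exists_subset_of_mem_open (show w ∈ h.left ⁻¹ᵁ B from hwB) (h.left ⁻¹ᵁ B).isOpen
    change W.left.Opens at A
    haveI : IsAffine (A : Scheme.{u}) := hA
    haveI : IsAffine (ElemSq.openObj B).left := hB
    have hr : Set.range (A.ι ≫ h.left) ⊆ Set.range B.ι := by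
      rintro _ ⟨v, rfl⟩
      rw [Scheme.Opens.range_ι]
      exact hAB v.2
    let hB' : (A : Scheme.{u}) ⟶ (ElemSq.openObj B).left := IsOpenImmersion.lift B.ι (A.ι ≫ h.left) hr
    have he : ∀ v, (hB' v).1 = h.left v.1 := fun v =>
      congrArg (fun m : (A : Scheme.{u}) ⟶ U.left => m v) (IsOpenImmersion.lift_fac B.ι (A.ι ≫ h.left) hr)
    have hfin := finite_range_in_fibre hX hN (repWith_comp (repWith_etale_openMk B) ha) x hB' fun v => by
      rw [ofPt_openMk B a, he]; exact hfib _
    let w₀ : (A : Scheme.{u}) := ⟨w, hwA⟩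
    let C : Set (ElemSq.openObj B).left := Set.range hB'
    let D := ⋃ v ∈ C \ {hB' w₀}, closure ({v} : Set (ElemSq.openObj B).left)
    have hD : IsClosed D := hfin.diff.isClosed_biUnion fun v _ => isClosed_closure
    have hw₀ : hB' w₀ ∉ D := fun hd => by
      obtain ⟨v, ⟨⟨v', rfl⟩, hne⟩, hv⟩ := Set.mem_iUnion₂.1 hd
      refine hne (eq_of_specializes_of_isLocNoethSp hX hN (repWith_comp (repWith_etale_openMk B) ha)
        (hB' w₀) (hB' v') ?_ (specializes_iff_mem_closure.2 hv)).symm
      rw [ofPt_openMk B a, ofPt_openMk B a, he, he, hfib, hfib]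
    obtain ⟨_, ⟨A', hA', rfl⟩, hwA', hA'D⟩ := W.left.isBasis_affineOpens.exists_subset_of_mem_open
      (show w ∈ Subtype.val '' (hB' ⁻¹' Dᶜ) from ⟨w₀, hw₀, rfl⟩)
      (A.isOpen.isOpenMap_subtype_val _ (hD.isOpen_compl.preimage hB'.continuous))
    change W.left.Opens at A'
    haveI : IsAffine (A' : Scheme.{u}) := hA'
    haveI : _root_.AlgebraicGeometry.IsReduced (A' : Scheme.{u}) := isReduced_of_isOpenImmersion A'.ι
    have himg : ∀ v : (A' : Scheme.{u}), (A'.ι ≫ h.left) v = h.left w := fun v => by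
      obtain ⟨v', hv', e⟩ := hA'D v.2
      have hd : hB' v' = hB' w₀ := by
        by_contra hne
        exact hv' (Set.mem_iUnion₂.2 ⟨hB' v', ⟨⟨v', rfl⟩, hne⟩, subset_closure rfl⟩)
      rw [Scheme.Hom.comp_apply]
      show h.left v.1 = h.left w
      rw [← e, ← he, hd, he]
    obtain ⟨l, hl⟩ := exists_factor_residue (A'.ι ≫ h.left) (h.left w) himg
    obtain ⟨m, hm⟩ := exists_lift_residue hX hZ i x hi a (h.left w) (hfib w)
    let l' : ElemSq.openObj A' ⟶ Over.mk (U.left.fromSpecResidueField (h.left w) ≫ U.hom) := Over.homMk l (by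
      show l ≫ U.left.fromSpecResidueField (h.left w) ≫ U.hom = A'.ι ≫ W.hom
      rw [reassoc_of% hl, Over.w h])
    refine ⟨A', (yon S).map l' ≫ m, hwA', ?_⟩
    rw [Category.assoc, hm, ← Functor.map_comp_assoc]
    congr 2
    exact Over.OverMorphism.ext hl
  choose O y hO hy using hloc
  haveI : ∀ w, IsOpenImmersion ((fun w => ElemSq.openInc (O w)) w).left := fun w =>
    inferInstanceAs (IsOpenImmersion (O w).ι)
  obtain ⟨m, hm, -⟩ := existsUnique_glue (fun w => ElemSq.openInc (O w)) (fun w => ⟨w, ⟨w, hO w⟩, rfl⟩) y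
    fun T v v' c c' e => by
      rw [← cancel_mono i, Category.assoc, Category.assoc, hy, hy, ← Functor.map_comp_assoc,
        ← Functor.map_comp_assoc, ← Category.assoc, e, Category.assoc]
  have hmi : m ≫ i = (yon S).map h ≫ a :=
    hom_ext_cover (fun w => ElemSq.openInc (O w)) (fun w => ⟨w, ⟨w, hO w⟩, rfl⟩) fun w => by
      rw [reassoc_of% hm w, hy w, Functor.map_comp, Category.assoc]
  have sP := IsPullback.of_hasPullback f i
  have : Mono (pullback.fst f i) := sP.mono_fst_of_mono
  have := epi_of_repWith _ hb hbs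
  have := epi_of_repWith _ hqe hqs
  have : Epi (pullback.fst f i) :=
    epi_of_epi_fac (show pullback.lift ((yon S).map q ≫ b) m (by rw [hmi, Category.assoc, sW.w]) ≫
      pullback.fst f i = (yon S).map q ≫ b from pullback.lift_fst _ _ _)
  have := isIso_of_mono_of_epi (pullback.fst f i)
  exact ⟨inv (pullback.fst f i) ≫ pullback.snd f i, by
    rw [Category.assoc, ← pullback.condition, IsIso.inv_hom_id_assoc]⟩

/-- A point is closed exactly when its residual space is a closed subspace. -/
theorem isClosed_iff_closedImmersion (hX : IsAlgSpace X) (hN : IsLocNoethSp X) {Z : Sp S} (hZ : IsAlgSpace Z)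
    (i : Z ⟶ X) [Mono i] (x : Points X) (hi : Set.range (Points.map i) = {x}) {k : Type u} [Field k]
    {str : Spec (CommRingCat.of k) ⟶ S} (p : (yon S).obj (Over.mk str) ⟶ Z) (h1 : LocP @LocallyOfFinitePresentation p)
    (h2 : LocP @Flat p) (h3 : IsSurjectiveMor p) :
    IsClosed ({x} : Set (Points X)) ↔ RepWith @IsClosedImmersion i := by
  refine ⟨fun hc => ?_, fun h => hi ▸ isClosed_range_map_of_closedImmersion h⟩
  obtain ⟨T, hT, j, hj, hjr, hred⟩ := exists_isRedInduced hX hc
  obtain ⟨g, hg⟩ := exists_factor_residual hX hN j hred hZ i x hi fun t => by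
    have := hjr.le ⟨t, rfl⟩
    exact this
  haveI := mono_of_closedImmersion hj
  haveI : Mono g := mono_of_mono_fac hg
  haveI : Nonempty (Points T) := by
    obtain ⟨t, -⟩ := hjr.symm ▸ Set.mem_singleton x
    exact ⟨t⟩
  haveI := isIso_of_mono_field_cover hT hZ g p h1 h2 h3
  rw [show i = inv g ≫ j by rw [← hg, IsIso.inv_hom_id_assoc]]
  exact repWith_comp (repWith_of_isIso _) hj

end Groth.L09.Residual
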