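import Groth.Agent.L09.Residual.Comparison
import Groth.Agent.L09.FieldPt.Basic
import Groth.Agent.L24.St.SieveDescent
import Groth.Agent.L24.St.MonoQcStack
import Groth.Agent.L24.St.FpAlg
import Groth.Agent.L23.FpqcDiag
import Groth.Agent.L23.FppfImmersion
import Groth.Agent.L23.FpqcAffine

/-!
Bijectivity of the comparison of isomorphisms descends along extensions of fields.
-/

set_option autoImplicit false
set_option backward.isDefEq.respectTransparency false
set_option backward.isDefEq.respectTransparency.types false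

universe u

open CategoryTheory CategoryTheory.Limits AlgebraicGeometry Opposite AlgSt

noncomputable section

namespace Groth.L09.Residual

open Groth.L24.St Groth.L24.LocQ

variable {S : Scheme.{u}} {𝒜 ℬ : AlgSt.Cat S}

theorem isLocalOnBase_fppf_isomorphisms :
    AlgSp.IsLocalOnBase (S := S) AlgSp.IsFppfCover (MorphismProperty.isomorphisms (AlgSp.Sp S)) :=
  fun {ι Y} Yi g hY hYi hcov X f hX Xi p q hXi sq => Groth.L23.isLocalOnBase_fpqc_isomorphisms Yi g hY hYi
    (Groth.L23.isFpqcCover_of_isFppfCover hY hYi hcov) f hX Xi p q hXi sq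

theorem pBase_isomorphisms : PBase (S := S) (MorphismProperty.isomorphisms (AlgSp.Sp S)) :=
  fun _ _ _ _ _ _ _ _ _ _ _ _ sq h => (MorphismProperty.isomorphisms (AlgSp.Sp S)).of_isPullback sq h

theorem isFpqcCover_of_affineHom {V U : Over S} (h : V ⟶ U) [Flat h.left] [Surjective h.left] [IsAffineHom h.left] :
    AlgSp.IsFpqcCover (fun _ : PUnit.{u + 1} => (AlgSp.yon S).obj V) (fun _ => (AlgSp.yon S).map h) := by
  refine ⟨fun _ => (locP_map_iff Groth.L23.etLocal_flat h).2 ‹_›, fun Z hZ k => ?_⟩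
  obtain ⟨k₀, rfl⟩ := (AlgSp.yon S).map_surjective k
  have := hZ
  have sW := ((IsPullback.of_hasPullback k₀ h).map (Over.forget S)).flip
  have : IsAffineHom (pullback.fst k₀ h).left := MorphismProperty.of_isPullback (P := @IsAffineHom) sW ‹_›
  have hs : Surjective (pullback.fst k₀ h).left := MorphismProperty.of_isPullback (P := @Surjective) sW ‹_›
  refine ⟨1, fun _ => pullback k₀ h, fun _ => pullback.fst k₀ h,
    fun _ => isAffine_of_isAffineHom (pullback.fst k₀ h).left,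
    fun _ => MorphismProperty.of_isPullback (P := @Flat) sW ‹_›,
    fun z => ⟨0, hs.surj z⟩, fun _ => ⟨⟨⟩, (AlgSp.yon S).map (pullback.snd k₀ h), ?_⟩⟩
  rw [← Functor.map_comp, ← Functor.map_comp, pullback.condition]

/-- A representable functor which becomes an equivalence over fpqc covers of the test schemes is one. -/
theorem repWith_iso_of_fpqc (h𝒜 : FibCat.IsFibGrpd 𝒜.p) (hℬ : FibCat.IsFibGrpd ℬ.p) {f : 𝒜 ⥤ᵇ ℬ}
    (hf : RepByAlgSp1 f)
    (H : ∀ (U : Over S) (y : FibCat.overCat U ⥤ᵇ ℬ), ∃ (V : Over S) (h : V ⟶ U),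
      Flat h.left ∧ Surjective h.left ∧ IsAffineHom h.left ∧
        FibCat.IsEquivOver (FibCat.fpFst (BasedFunctor.comp (overMap h) y) f)) :
    RepByAlgSpWith (MorphismProperty.isomorphisms (AlgSp.Sp S)) f := by
  intro U y
  obtain ⟨F, e, he⟩ := hf U y
  refine ⟨F, e, he, ?_⟩
  obtain ⟨V, h, hfl, hs, ha, hE⟩ := H U y
  let a := spMapOfOver (BasedFunctor.comp e (FibCat.fpFst y f))
  have hY : AlgSp.IsAlgSpace ((AlgSp.yon S).obj V) := AlgSp.IsAlgSpace.yon_obj V
  refine (Groth.L23.isLocalOnBase_fpqc_isomorphisms (fun _ : PUnit.{u + 1} => (AlgSp.yon S).obj V)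
    (fun _ => (AlgSp.yon S).map h) (AlgSp.IsAlgSpace.yon_obj U) (fun _ => hY) (isFpqcCover_of_affineHom h)
    a F.property (fun _ => pullback a ((AlgSp.yon S).map h))
    (fun _ => pullback.snd _ _) (fun _ => pullback.fst _ _)
    (fun _ => isAlgSpace_pullback F.property hY (AlgSp.IsAlgSpace.yon_obj U) _ _)
    (fun _ => IsPullback.of_hasPullback _ _)).2 fun _ => ?_
  have sq := IsPullback.of_hasPullback a ((AlgSp.yon S).map h)
  obtain ⟨hP, Θ, hΘ, ⟨iΘ⟩⟩ := exists_space_square h𝒜 hℬ y e he hY sq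
  let g := BasedFunctor.comp (overMap h) y
  have h' : RepByAlgSpWith (MorphismProperty.isomorphisms (AlgSp.Sp S)) (FibCat.fpFst g f) :=
    repWith_of_isEquivOver (fun _ _ _ _ b hb => hb) hE
  obtain ⟨W, b, e', hW, he', ⟨i'⟩, hb⟩ := exists_space_prop hasAtlasCovers_fppf pBase_isomorphisms
    isLocalOnBase_fppf_isomorphisms (L09.Fib.fp_isFibGrpd (overCat_isFibGrpd V) h𝒜 hℬ) (overCat_isFibGrpd V) h'
    hY (toOverCat V)
  have h1 : spMapOfOver (BasedFunctor.comp (toOverCat V) (overMap h)) = (AlgSp.yon S).map h := by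
    rw [spMapOfOver_overMap, spMapOfOver_toOverCat, Category.id_comp]
  let iζ : BasedFunctor.comp (BasedFunctor.comp (ofSpMap ((AlgSp.yon S).map h)) (toOverCat U)) y ≅
      BasedFunctor.comp (toOverCat V) g :=
    whiskerR ((overFactor (BasedFunctor.comp (toOverCat V) (overMap h))).trans
      (eqToIso (by rw [h1]))).symm y
  let M := fpMap (F := BasedFunctor.comp (BasedFunctor.comp (ofSpMap ((AlgSp.yon S).map h)) (toOverCat U)) y)
    (G := f) (F' := BasedFunctor.comp (toOverCat V) g) (G' := f)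
    (BasedFunctor.id _) (BasedFunctor.id _) iζ (Iso.refl _)
  let e₁ := BasedFunctor.comp e' (BasedFunctor.comp (fpPaste (toOverCat V) g f) M)
  have he₁ : FibCat.IsEquivOver e₁ := isEquivOver_comp he' (isEquivOver_comp (fpPaste_isEquivOver _ g f)
    (fpMap_isEquivOver (isEquivOver_id _) (isEquivOver_id _) _ _))
  obtain ⟨j, hj, hja⟩ := exists_iso_over he₁ hΘ
    (show BasedFunctor.comp e₁ (FibCat.fpFst _ f) ≅ ofSpMap b from i') iΘ
  rw [← hja]
  exact pBase_isomorphisms.iso_left hW hP hY j hb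

/-- A functor representable by isomorphisms is an equivalence. -/
theorem isEquivOver_of_repWith_iso (h𝒜 : FibCat.IsFibGrpd 𝒜.p) (hℬ : FibCat.IsFibGrpd ℬ.p) {f : 𝒜 ⥤ᵇ ℬ}
    (hf : RepByAlgSpWith (MorphismProperty.isomorphisms (AlgSp.Sp S)) f) : FibCat.IsEquivOver f := by
  have hm : IsMono f := repWith_mono (fun F U _ a (h : IsIso a) => inferInstanceAs (Mono a)) hf
  have := full_of_isMono h𝒜 hℬ f hm
  have := faithful_of_rep1 h𝒜 hℬ f (repWith_rep1 hm)
  refine isEquivOver_of_overId _ fun η => ?_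
  obtain ⟨G, k, hk⟩ := exists_overCat_functor hℬ η rfl
  obtain ⟨F, e, he, hiso⟩ := hf (ℬ.p.obj η) G
  have : IsIso (spMapOfOver (BasedFunctor.comp e (FibCat.fpFst G f))) := hiso
  obtain ⟨y, ⟨i⟩⟩ := exists_lift_of_section e (𝟙 (ℬ.p.obj η))
    (inv (spMapOfOver (BasedFunctor.comp e (FibCat.fpFst G f))))
    (by rw [IsIso.inv_hom_id, CategoryTheory.Functor.map_id])
  let t : (overMap (𝟙 (ℬ.p.obj η))).obj (idObj _) ≅ idObj (ℬ.p.obj η) :=
    Over.isoMk (Iso.refl _) (by simp [overMap, idObj])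
  let i₀ : f.obj (y.obj (idObj _)) ≅ G.obj ((overMap (𝟙 (ℬ.p.obj η))).obj (idObj _)) :=
    ((BasedNatTrans.forgetful _ _).mapIso i).app (idObj _)
  exact ⟨y.obj (idObj _), i₀ ≪≫ G.toFunctor.mapIso t ≪≫ k,
    (overId_app i.hom _).comp (((OverId.of_eq (𝒳 := FibCat.overCat _) (φ := t.hom) rfl rfl).map G).comp hk)⟩

variable {𝒳 𝒴 : AlgSt.Cat S}

theorem leg_good {f : 𝒳 ⥤ᵇ 𝒴} {P K : Over S} {z : FibCat.overCat P ⥤ᵇ 𝒳} {w : K ⟶ P}
    (H : ∀ a b : (FibCat.overCat K).obj, FFAt f (z.obj ((overMap w).obj a)) (z.obj ((overMap w).obj b)))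
    {V : Over S} {y : FibCat.overCat V ⥤ᵇ FibCat.fp (BasedFunctor.comp z f) (BasedFunctor.comp z f)}
    {q₁ q₂ : V ⟶ K}
    (i₁ : BasedFunctor.comp y (FibCat.fpFst _ _) ≅ BasedFunctor.comp (overMap q₁) (overMap w))
    (i₂ : BasedFunctor.comp y (FibCat.fpSnd _ _) ≅ BasedFunctor.comp (overMap q₂) (overMap w))
    (t : (FibCat.overCat V).obj) : GoodPair f z (y.obj t) :=
  (H ((overMap q₁).obj t) ((overMap q₂).obj t)).congr
    (z.toFunctor.mapIso (((BasedNatTrans.forgetful _ _).mapIso i₁).app t))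
    (z.toFunctor.mapIso (((BasedNatTrans.forgetful _ _).mapIso i₂).app t))
    ((overId_app i₁.hom t).map z) ((overId_app i₂.hom t).map z)

/-- Bijectivity after an extension of the field gives bijectivity for the field point. -/
theorem ffAt_of_extension (h𝒳 : IsAlgStack Scheme.fppfPrecoverage 𝒳) (h𝒴 : IsAlgStack Scheme.fppfPrecoverage 𝒴)
    {f : 𝒳 ⥤ᵇ 𝒴} {k : Type u} [Field k] {a : Spec (CommRingCat.of k) ⟶ S}
    (z : FibCat.overCat (Over.mk a) ⥤ᵇ 𝒳) {K : Over S} [IsAffine K.left] [Nonempty K.left] (w : K ⟶ Over.mk a)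
    (H : ∀ a b : (FibCat.overCat K).obj, FFAt f (z.obj ((overMap w).obj a)) (z.obj ((overMap w).obj b)))
    (b c : (FibCat.overCat (Over.mk a)).obj) : FFAt f (z.obj b) (z.obj c) := by
  refine ffAt_of_isEquivOver ?_ b c
  have hP := isAlgStack_overCat (Over.mk a)
  have hA := isAlgStack_fp hP hP h𝒳 z z
  have hB := isAlgStack_fp hP hP h𝒴 (BasedFunctor.comp z f) (BasedFunctor.comp z f)
  let L := ffFp f z z
  have : L.toFunctor.Faithful := ⟨fun {w w'} {m m'} h => fp_ext
    (congrArg (fun t : L.obj w ⟶ L.obj w' => t.hom.fst) h)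
    (congrArg (fun t : L.obj w ⟶ L.obj w' => t.hom.snd) h)⟩
  refine isEquivOver_of_repWith_iso hA.isStack.1 hB.isStack.1
    (repWith_iso_of_fpqc hA.isStack.1 hB.isStack.1 (rep1_of_faithful hA hB L) fun U y => ?_)
  have : IsAffine (Over.mk a).left := inferInstanceAs (IsAffine (Spec (CommRingCat.of k)))
  have : Subsingleton ↥(Over.mk a).left := inferInstanceAs (Subsingleton (PrimeSpectrum k))
  have : Flat w.left := Groth.L09.FieldPt.flat_to_field w.left
  have : Surjective w.left := ⟨fun x => ⟨Classical.arbitrary _, Subsingleton.elim _ _⟩⟩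
  have : IsAffineHom w.left := isAffineHom_of_isAffine _
  obtain ⟨r₁, ⟨j₁⟩, -⟩ := exists_overMap_iso (BasedFunctor.comp y (FibCat.fpFst _ _))
  obtain ⟨r₂, ⟨j₂⟩, -⟩ := exists_overMap_iso (BasedFunctor.comp y (FibCat.fpSnd _ _))
  let π := pullback.fst r₁ w
  let π' := pullback.fst (π ≫ r₂) w
  have s := ((IsPullback.of_hasPullback r₁ w).map (Over.forget S)).flip
  have s' := ((IsPullback.of_hasPullback (π ≫ r₂) w).map (Over.forget S)).flip
  have : Flat π.left := MorphismProperty.of_isPullback (P := @Flat) s ‹_›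
  have : Flat π'.left := MorphismProperty.of_isPullback (P := @Flat) s' ‹_›
  have : Surjective π.left := MorphismProperty.of_isPullback (P := @Surjective) s ‹_›
  have : Surjective π'.left := MorphismProperty.of_isPullback (P := @Surjective) s' ‹_›
  have : IsAffineHom π.left := MorphismProperty.of_isPullback (P := @IsAffineHom) s ‹_›
  have : IsAffineHom π'.left := MorphismProperty.of_isPullback (P := @IsAffineHom) s' ‹_›
  let h := π' ≫ π
  refine ⟨_, h, inferInstanceAs (Flat (π'.left ≫ π.left)), inferInstanceAs (Surjective (π'.left ≫ π.left)),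
    inferInstanceAs (IsAffineHom (π'.left ≫ π.left)), isEquivOver_fpFst_ffFp h𝒳.isStack.1 h𝒴.isStack.1 _ fun t => ?_⟩
  obtain ⟨c₁⟩ := exists_overMap_comp h r₁
  obtain ⟨d₁⟩ := exists_overMap_comp (π' ≫ pullback.snd r₁ w) w
  obtain ⟨c₂⟩ := exists_overMap_comp h r₂
  obtain ⟨d₂⟩ := exists_overMap_comp (pullback.snd (π ≫ r₂) w) w
  have e₁ : h ≫ r₁ = (π' ≫ pullback.snd r₁ w) ≫ w := by
    simp only [h, π, Category.assoc, pullback.condition]
  have e₂ : h ≫ r₂ = pullback.snd (π ≫ r₂) w ≫ w := by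
    simp only [h, Category.assoc]; exact pullback.condition
  exact leg_good H (y := BasedFunctor.comp (overMap h) y)
    (whiskerL (overMap h) j₁ ≪≫ c₁ ≪≫ eqToIso (congrArg overMap e₁) ≪≫ d₁.symm)
    (whiskerL (overMap h) j₂ ≪≫ c₂ ≪≫ eqToIso (congrArg overMap e₂) ≪≫ d₂.symm) t

end Groth.L09.Residual
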