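import Groth.Agent.L09.Residual.Comparison
import Groth.Agent.L09.StkFaithful
import Groth.Agent.L09.FibFiberwise

/-!
Bijectivity on isomorphisms of local models gives full faithfulness.
-/

set_option autoImplicit false
set_option backward.isDefEq.respectTransparency false
set_option backward.isDefEq.respectTransparency.types false

universe u

open CategoryTheory CategoryTheory.Limits AlgebraicGeometry AlgSt

noncomputable section

namespace Groth.L09.Residual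

open Groth.L24.St

variable {S : Scheme.{u}} {𝒳 𝒴 𝒵 : AlgSt.Cat S} {f : 𝒳 ⥤ᵇ 𝒴} {z : 𝒵 ⥤ᵇ 𝒳}

theorem fullFaithful_of_locally {J : GrothendieckTopology (Over S)} (h𝒳 : Stk.IsStack J 𝒳)
    (h𝒴 : Stk.IsStack J 𝒴) (hz : Gerb.LocSurjObj J z) (H : ∀ b c, FFAt f (z.obj b) (z.obj c)) :
    f.toFunctor.Full ∧ f.toFunctor.Faithful := by
  have := L09.Fib.isFibered_of_isFibGrpd _ h𝒳.1
  have hfa : f.toFunctor.Faithful := by
    refine L09.Fib.faithful_of_fiber f (L09.Fib.preservesStronglyCartesian_of_isFibGrpd f h𝒴.1) fun U =>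
      ⟨fun {a b p q} e => Subtype.ext ?_⟩
    have e' : f.map p.1 = f.map q.1 := congrArg Subtype.val e
    have := p.2
    have := q.2
    obtain ⟨R, hR, h⟩ := L09.Gerb.objAt hz (y := a.1) a.2
    obtain ⟨R', hR', h'⟩ := L09.Gerb.objAt hz (y := b.1) b.2
    have : (Stk.resSieve (R ⊓ R') 𝒳).IsEquivalence := h𝒳.2 _ (J.intersection_covering hR hR')
    refine Groth.L09.Stk.eq_of_locally h𝒳.1 (R := R ⊓ R') inferInstance p.1 q.1 fun T g hg => ?_
    obtain ⟨c, x, hx⟩ := h g hg.1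
    obtain ⟨c', x', hx'⟩ := h' g hg.2
    refine ⟨z.obj c, x, hx, ?_⟩
    have hp : 𝒳.p.IsHomLift g (x ≫ p.1) := IsHomLift.comp_lift_id_right' 𝒳.p g x U p.1
    have hq : 𝒳.p.IsHomLift g (x ≫ q.1) := IsHomLift.comp_lift_id_right' 𝒳.p g x U q.1
    obtain ⟨χ, hχ, hχe⟩ := L09.Gerb.connect h𝒳.1 g (x ≫ p.1) x'
    obtain ⟨χ', hχ', hχe'⟩ := L09.Gerb.connect h𝒳.1 g (x ≫ q.1) x'
    have hl : 𝒴.p.IsHomLift g (f.map x') := inferInstance
    have := L09.Fib.stronglyCartesian_of_isFibGrpd 𝒴.p h𝒴.1 g (f.map x')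
    have key : f.map χ.hom = f.map χ'.hom := by
      have : 𝒴.p.IsHomLift (𝟙 T) (f.map χ.hom) := inferInstance
      have : 𝒴.p.IsHomLift (𝟙 T) (f.map χ'.hom) := inferInstance
      refine Functor.IsCartesian.ext 𝒴.p g (f.map x') _ _ ?_
      rw [← Functor.map_comp, ← Functor.map_comp, hχe, hχe', Functor.map_comp, Functor.map_comp, e']
    rw [← hχe, ← hχe', (H c c').2 χ χ' (overId_of_lift hχ) (overId_of_lift hχ') key]
  refine ⟨Groth.L09.Gerb.full_of_faithful_locSurjHom h𝒳 h𝒴 f fun x x' b hb => ?_, hfa⟩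
  have hx' : 𝒳.p.obj x' = 𝒳.p.obj x :=
    (f.w_obj x').symm.trans (IsHomLift.codomain_eq 𝒴.p (𝟙 (𝒳.p.obj x)) b)
  obtain ⟨R, hR, h⟩ := hz x
  obtain ⟨R', hR', h'⟩ := L09.Gerb.objAt hz hx'
  refine ⟨R ⊓ R', J.intersection_covering hR hR', fun V g hg => ?_⟩
  obtain ⟨c, π, hπ⟩ := h g hg.1
  obtain ⟨c', π', hπ'⟩ := h' g hg.2
  have hl : 𝒴.p.IsHomLift g (f.map π ≫ b) :=
    IsHomLift.comp_lift_id_right' 𝒴.p g (f.map π) (𝒳.p.obj x) b
  obtain ⟨χ, hχ, hχe⟩ := L09.Gerb.connect h𝒴.1 g (f.map π ≫ b) (f.map π')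
  obtain ⟨i, hi, hiχ⟩ := (H c c').1 χ (overId_of_lift hχ)
  have hi' : 𝒳.p.IsHomLift (𝟙 V) i.hom := hi.lift (IsHomLift.domain_eq 𝒳.p g π)
  refine ⟨z.obj c, π, i.hom ≫ π', hπ, IsHomLift.comp_lift_id_left' 𝒳.p V i.hom g π', ?_⟩
  rw [Functor.map_comp, hiχ, hχe]

end Groth.L09.Residual
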