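import Groth.Agent.L09.Residual.FullFaithful
import Groth.Agent.L09.FieldPt.Basic
import Groth.Agent.L09.Artin.Apps.Model
import Groth.Agent.L24.St.SieveDescent
import Groth.Agent.S12795
import Groth.Agent.S12840
import Groth.Agent.S16807

/-!
The residual substack of a stack covered flatly by a field, and maps factoring through it.
-/

set_option autoImplicit false
set_option backward.isDefEq.respectTransparency false
set_option backward.isDefEq.respectTransparency.types false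

universe u

open CategoryTheory CategoryTheory.Limits AlgebraicGeometry Opposite AlgSt

noncomputable section

namespace Groth.L09.Residual

open Groth.L24.St Groth.L24.LocQ Groth.L09.FieldPt

variable {S : Scheme.{u}} {𝒳 𝒲 : AlgSt.Cat S} {U P : Over S}

local notation "Jf" => QuotSh.J Scheme.fppfPrecoverage S

section Image

variable (z : FibCat.overCat P ⥤ᵇ 𝒳)

/-- The objects which fppf locally come from a chart. -/
def imgProp : 𝒳.obj → Prop := fun ξ => ∃ R ∈ Jf (𝒳.p.obj ξ), ∀ ⦃V : Over S⦄ (f : V ⟶ 𝒳.p.obj ξ),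
  R f → ∃ (b : (FibCat.overCat P).obj) (g : z.obj b ⟶ ξ), 𝒳.p.IsHomLift f g

variable {z}

theorem imgProp_of_hom (h𝒳 : FibCat.IsFibGrpd 𝒳.p) {η ξ : 𝒳.obj} (φ : η ⟶ ξ) (h : imgProp z ξ) :
    imgProp z η := by
  obtain ⟨R, hR, hR'⟩ := h
  refine ⟨R.pullback (𝒳.p.map φ), (Jf).pullback_stable _ hR, fun V f hf => ?_⟩
  obtain ⟨b, g, hg⟩ := hR' (f ≫ 𝒳.p.map φ) hf
  obtain ⟨η', π, hπ⟩ := L09.Gerb.exists_pull h𝒳 η rfl f
  have : 𝒳.p.IsHomLift (f ≫ 𝒳.p.map φ) (π ≫ φ) := inferInstance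
  obtain ⟨χ, hχ, -⟩ := L09.Gerb.connect h𝒳 (f ≫ 𝒳.p.map φ) g (π ≫ φ)
  exact ⟨b, χ.hom ≫ π, IsHomLift.comp_lift_id_left' 𝒳.p V χ.hom f π⟩

theorem imgProp_isClosed (h𝒳 : FibCat.IsFibGrpd 𝒳.p) : ObjectProperty.IsClosedUnderIsomorphisms (imgProp z) :=
  ⟨fun e h => imgProp_of_hom h𝒳 e.inv h⟩

theorem imgProp_obj (b : (FibCat.overCat P).obj) : imgProp z (z.obj b) := by
  refine ⟨⊤, (Jf).top_mem _, fun V f _ => ?_⟩
  let f' : V ⟶ b.left := f ≫ eqToHom (z.w_obj b)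
  refine ⟨Over.mk (f' ≫ b.hom), z.map (Over.homMk f' : Over.mk (f' ≫ b.hom) ⟶ b),
    IsHomLift.of_fac' 𝒳.p _ _ (z.w_obj _) rfl ?_⟩
  rw [p_map_map]
  show eqToHom _ ≫ f' ≫ eqToHom _ = _
  simp [f']

theorem imgProp_local (h𝒳 : FibCat.IsFibGrpd 𝒳.p) {U : Over S} (R : Sieve U) (hR : R ∈ Jf U) (x : 𝒳.obj)
    (hx : 𝒳.p.obj x = U)
    (H : ∀ ⦃V' : Over S⦄ (f : V' ⟶ U), R f → ∀ (y : 𝒳.obj) (φ : y ⟶ x), 𝒳.p.IsHomLift f φ → imgProp z y) :
    imgProp z x := by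
  subst hx
  refine L09.Gerb.exists_bind hR fun V f hf => ?_
  obtain ⟨y, φ, hφ⟩ := L09.Gerb.exists_pull h𝒳 x rfl f
  obtain ⟨R', hR', h'⟩ := H f hf y φ hφ
  obtain rfl := IsHomLift.domain_eq 𝒳.p f φ
  refine ⟨R', hR', fun W g hg => ?_⟩
  obtain ⟨b, k, hk⟩ := h' g hg
  exact ⟨b, k ≫ φ, inferInstance⟩

theorem isStack_imgProp (h𝒳 : Stk.IsStack Jf 𝒳) : Stk.IsStack Jf (fullSub 𝒳 (imgProp z)) := by
  refine Groth.Agent.S12795.result _ h𝒳 (imgProp z)
    (fun η ξ φ hξ => ⟨η, Iso.refl η, imgProp_of_hom h𝒳.1 φ hξ, overId_id η⟩) ?_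
  intro U R hR x hx H
  refine ⟨x, Iso.refl x, imgProp_local h𝒳.1 R hR x hx fun V' f hf y φ hφ => ?_, (overId_id x).lift hx⟩
  obtain ⟨y', e, hy', -⟩ := H f hf y φ hφ
  exact imgProp_of_hom h𝒳.1 e.hom hy'

variable (z) in
/-- The chart into the full subcategory of the objects locally coming from it. -/
def imgLift : FibCat.overCat P ⥤ᵇ fullSub 𝒳 (imgProp z) where
  toFunctor := ObjectProperty.lift _ z.toFunctor imgProp_obj
  w := z.w

theorem repWith_imgLift {Q : MorphismProperty (AlgSp.Sp S)} (h : RepByAlgSpWith Q z) :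
    RepByAlgSpWith Q (imgLift z) :=
  have : (subIncl 𝒳 (imgProp z)).toFunctor.Full := inferInstanceAs (ObjectProperty.ι (imgProp z)).Full
  have : (subIncl 𝒳 (imgProp z)).toFunctor.Faithful := inferInstanceAs (ObjectProperty.ι (imgProp z)).Faithful
  repWith_of_comp_fullFaithful (subIncl 𝒳 (imgProp z)) (imgLift z) h

theorem exists_lift_imgLift (h𝒳 : Stk.IsStack Jf 𝒳) (U : Over S)
    (y : FibCat.overCat U ⥤ᵇ fullSub 𝒳 (imgProp z)) :
    ∃ R ∈ Jf U, ∀ ⦃V : Over S⦄ (h : V ⟶ U), R.arrows h → ∃ t : FibCat.overCat V ⥤ᵇ FibCat.overCat P,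
      Nonempty (BasedFunctor.comp t (imgLift z) ≅ BasedFunctor.comp (overMap h) y) := by
  obtain ⟨ξ, hξ⟩ : ∃ ξ, y.obj (idObj U) = ξ := ⟨_, rfl⟩
  obtain ⟨R₀, hR₀, h₀⟩ := (y.obj (idObj U)).property
  have e : 𝒳.p.obj (y.obj (idObj U)).obj = U := y.w_obj (idObj U)
  refine ⟨R₀.pullback (eqToHom e.symm), (Jf).pullback_stable _ hR₀, fun V h hh => ?_⟩
  obtain ⟨b, g, hg⟩ := h₀ _ hh
  have hb : b.left = V := (z.w_obj b).symm.trans (IsHomLift.domain_eq 𝒳.p (h ≫ eqToHom e.symm) g)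
  obtain ⟨bl, ⟨⟨⟩⟩, t⟩ := b
  change bl = V at hb
  subst hb
  refine ⟨overMap t, ?_⟩
  let T := fullSub 𝒳 (imgProp z)
  let G := BasedFunctor.comp (overMap t) (imgLift z)
  let m₁ : G.obj (idObj bl) ⟶ y.obj (idObj U) := ObjectProperty.homMk
    (z.map (Over.homMk (𝟙 bl) : Over.mk (𝟙 bl ≫ t) ⟶ Over.mk t) ≫ g)
  let m₂ : (BasedFunctor.comp (overMap h) y).obj (idObj bl) ⟶ y.obj (idObj U) :=
    y.map (Over.homMk h : Over.mk (𝟙 bl ≫ h) ⟶ idObj U)
  have h₁ : T.p.IsHomLift h m₁ := by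
    have hl : 𝒳.p.IsHomLift (𝟙 bl) (z.map (Over.homMk (𝟙 bl) : Over.mk (𝟙 bl ≫ t) ⟶ Over.mk t)) :=
      IsHomLift.of_fac' 𝒳.p _ _ (z.w_obj _) (z.w_obj _) (by rw [p_map_map]; rfl)
    have hl' : 𝒳.p.IsHomLift h g := IsHomLift.of_fac' 𝒳.p _ _ (z.w_obj _) e (by
      rw [IsHomLift.fac' 𝒳.p (h ≫ eqToHom e.symm) g]; simp)
    exact (BasedFunctor.isHomLift_iff (subIncl 𝒳 (imgProp z)) h m₁).1
      (IsHomLift.comp_lift_id_left' 𝒳.p bl _ h g)
  have h₂ : T.p.IsHomLift h m₂ := IsHomLift.of_fac' T.p _ _ (y.w_obj _) (y.w_obj _) (by rw [p_map_map]; rfl)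
  obtain ⟨χ, hχ, -⟩ := L09.Gerb.connect (isStack_imgProp h𝒳).1 h m₁ m₂
  obtain ⟨i, -⟩ := exists_iso_of_evalId (isStack_imgProp h𝒳).1 χ (overId_of_lift hχ)
  exact ⟨i⟩

theorem lfp_to_field {k : Type u} [Field k] {a : Spec (CommRingCat.of k) ⟶ S}
    (h𝒳 : IsAlgStack Scheme.fppfPrecoverage 𝒳) {f : 𝒳 ⥤ᵇ FibCat.overCat (Over.mk a)}
    (hf : RepByAlgSpWith (AlgSp.LocP @LocallyOfFiniteType) f) :
    RepByAlgSpWith (AlgSp.LocP @LocallyOfFinitePresentation) f :=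
  have hN : SmoothLocally (fun T => IsLocallyNoetherian T) (FibCat.overCat (Over.mk a)) :=
    smoothLocally_of_chart (overCat_isFibGrpd _) smoothLocalProp_isLocallyNoetherian (smooth_id _)
      (surjective_ofChart_of_repWith (overCat_isFibGrpd _) (surjective_id _))
      (inferInstanceAs (IsLocallyNoetherian (Spec (CommRingCat.of k))))
  repWith_of_locQ isSmoothLocalST_lfp (pBase_locP Groth.L23.etLocal_lfp)
    (isLocalOnBase_locP_fppf Groth.L23.etLocal_lfp) h𝒳 (isAlgStack_overCat _) (repWith_rep1 hf)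
    (locQ_lfp_of_noetherian h𝒳 (isAlgStack_overCat _) hN
      (locQ_of_repWith_locP Groth.L23.etLocal_lft h𝒳 (isAlgStack_overCat _) hf))

/-- The image of a field point which is flat and locally of finite type is an algebraic stack. -/
theorem imgLift_props (h𝒳 : IsAlgStack Scheme.fppfPrecoverage 𝒳) {k : Type u} [Field k]
    {a : Spec (CommRingCat.of k) ⟶ S} {z : FibCat.overCat (Over.mk a) ⥤ᵇ 𝒳}
    (hl : RepByAlgSpWith (AlgSp.LocP @LocallyOfFiniteType) z) (hf : RepByAlgSpWith (AlgSp.LocP @Flat) z)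
    (hs : RepByAlgSpWith AlgSp.IsSurjectiveMor z) :
    IsAlgStack Scheme.fppfPrecoverage (fullSub 𝒳 (imgProp z)) ∧
      RepByAlgSpWith (AlgSp.LocP @LocallyOfFinitePresentation) (imgLift z) ∧
      RepByAlgSpWith AlgSp.IsSurjectiveMor (imgLift z) ∧ RepByAlgSpWith (AlgSp.LocP @Flat) (imgLift z) := by
  have hst := isStack_imgProp (z := z) h𝒳.isStack
  have hP := isAlgStack_overCat (Over.mk a)
  have hl' : RepByAlgSpWith (AlgSp.LocP @LocallyOfFinitePresentation) (imgLift z) := by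
    refine repWith_of_fpFst_sieve (pBase_locP Groth.L23.etLocal_lfp) (isLocalOnBase_locP_fppf Groth.L23.etLocal_lfp)
      hP.isStack.1 hst.1 hP.isStack.1 (repWith_rep1 (repWith_imgLift hl))
      (exists_lift_imgLift h𝒳.isStack) ?_
    have : (subIncl 𝒳 (imgProp z)).toFunctor.Full := inferInstanceAs (ObjectProperty.ι (imgProp z)).Full
    have : (subIncl 𝒳 (imgProp z)).toFunctor.Faithful := inferInstanceAs (ObjectProperty.ι (imgProp z)).Faithful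
    exact (repWith_precomp (ffFp_isEquivOver (subIncl 𝒳 (imgProp z)) (imgLift z) (imgLift z))
      (FibCat.fpFst z z)).2 (lfp_to_field (isAlgStack_fp hP hP h𝒳 z z) (repWith_fpFst z hl))
  have hflp : RepByAlgSpWith Groth.L09.Artin.Res.FLP (imgLift z) :=
    repWith_inf (pBase_locP Groth.L23.etLocal_lfp) (repWith_imgLift hf) hl'
  exact ⟨Groth.L09.Artin.Model.isAlgStack hst hflp (repWith_imgLift hs), hl', repWith_imgLift hs,
    repWith_imgLift hf⟩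

end Image

/-- A morphism to a stack factors through a substack covered flatly by a field whose point it meets. -/
theorem mem_of_point (h𝒳 : IsAlgStack Scheme.fppfPrecoverage 𝒳) (h𝒲 : IsAlgStack Scheme.fppfPrecoverage 𝒲)
    {k : Type u} [Field k] {a : Spec (CommRingCat.of k) ⟶ S} (z : FibCat.overCat (Over.mk a) ⥤ᵇ 𝒲)
    (h₁ : RepByAlgSpWith (AlgSp.LocP @LocallyOfFinitePresentation) z)
    (h₂ : RepByAlgSpWith AlgSp.IsSurjectiveMor z) (h₃ : RepByAlgSpWith (AlgSp.LocP @Flat) z)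
    (Q : 𝒳.obj → Prop) (hQc : ObjectProperty.IsClosedUnderIsomorphisms Q)
    (hQ : IsAlgStack Scheme.fppfPrecoverage (fullSub 𝒳 Q)) (g : 𝒲 ⥤ᵇ 𝒳) (p : Points 𝒲)
    (q : Points (fullSub 𝒳 Q)) (h : Points.map g p = Points.map (subIncl 𝒳 Q) q) (w : 𝒲.obj) : Q (g.obj w) := by
  have : (subIncl 𝒳 Q).toFunctor.Full := inferInstanceAs (ObjectProperty.ι Q).Full
  have : (subIncl 𝒳 Q).toFunctor.Faithful := inferInstanceAs (ObjectProperty.ι Q).Faithful
  have hm : IsMono (subIncl 𝒳 Q) := Groth.Agent.S12840.result hQ h𝒳 _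
  obtain ⟨v, -, -⟩ := exists_points_fp hQ.isStack.1 h𝒳.isStack.1 h𝒲.isStack.1 (subIncl 𝒳 Q) g p q h
  obtain he | he := Groth.Agent.S16807.result S (FibCat.fp g (subIncl 𝒳 Q)) 𝒲 (isAlgStack_fp h𝒲 hQ h𝒳 g _) h𝒲
    (FibCat.fpFst g (subIncl 𝒳 Q)) (repWith_fpFst g hm) k a z h₁ h₂ h₃
  · exact (he.false v).elim
  obtain ⟨G, -, -, ⟨i⟩⟩ := exists_inverse he
  let i₀ : (G.obj w).obj.fst ≅ w := ((BasedNatTrans.forgetful _ _).mapIso i).app w
  exact hQc.of_iso ((G.obj w).obj.iso.symm ≪≫ g.toFunctor.mapIso i₀) (G.obj w).obj.snd.property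

end Groth.L09.Residual
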